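import Groth.Agent.AffLim.Points
import Groth.Agent.AffLim.Presentation

/-!
# Base change of a limit over a base, and algebras as colimits of finitely generated subalgebras
-/

set_option autoImplicit false
set_option backward.isDefEq.respectTransparency false
universe u
open CategoryTheory CategoryTheory.Limits AlgebraicGeometry

noncomputable section

namespace Groth.Agent.PropPi1

variable {J : Type u} [SmallCategory J] {D : J ⥤ Scheme.{u}} {S T : Scheme.{u}}
  (t : D ⟶ (Functor.const J).obj S) (a : T ⟶ S)

/-- The diagram `T ×_S D j`. -/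
@[simps]
def bcDiag : J ⥤ Scheme.{u} where
  obj j := pullback a (t.app j)
  map {j k} φ := pullback.map _ _ _ _ (𝟙 T) (D.map φ) (𝟙 _) (by simp)
    (by simpa using (t.naturality φ).symm)
  map_id j := by apply pullback.hom_ext <;> simp
  map_comp φ ψ := by apply pullback.hom_ext <;> simp

variable (c : Cone D) (g : c.pt ⟶ S) (hg : ∀ j, c.π.app j ≫ t.app j = g)

/-- The cone with apex `T ×_S lim D`. -/
@[simps]
def bcCone : Cone (bcDiag t a) where
  pt := pullback a g
  π :=
    { app := fun j => pullback.map _ _ _ _ (𝟙 T) (c.π.app j) (𝟙 _) (by simp)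
        (by rw [Category.comp_id]; exact (hg j).symm)
      naturality := fun j k φ => by apply pullback.hom_ext <;> simp }

include hg in
theorem nonempty_isLimit_bcCone [IsCofiltered J] (hc : IsLimit c) :
    Nonempty (IsLimit (bcCone t a c g hg)) := by
  haveI := IsCofiltered.isConnected J
  let α : bcDiag t a ⟶ D :=
    { app := fun j => pullback.snd _ _
      naturality := fun j k φ => by simp }
  refine ⟨isLimitOfIsPullbackOfIsConnected α (bcCone t a c g hg) c
    { hom := pullback.snd _ _, w := fun j => by simp [α] } (fun j => ?_) hc⟩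
  refine IsPullback.of_bot ?_ (by simp [α]) (IsPullback.of_hasPullback a (t.app j)).flip |>.flip
  simpa [hg] using (IsPullback.of_hasPullback a g).flip

instance isAffineHom_bcDiag [∀ {i j} (f : i ⟶ j), IsAffineHom (D.map f)] {j k : J} (φ : j ⟶ k) :
    IsAffineHom ((bcDiag t a).map φ) := by
  have P : IsPullback ((bcDiag t a).map φ) (pullback.snd a (t.app j)) (pullback.snd a (t.app k))
      (D.map φ) := by
    refine IsPullback.of_right ?_ (by simp) (IsPullback.of_hasPullback a (t.app k))
    have h : D.map φ ≫ t.app k = t.app j := by simpa using t.naturality φ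
    rw [h]
    simpa using IsPullback.of_hasPullback a (t.app j)
  exact MorphismProperty.of_isPullback P.flip inferInstance

section Subalg

variable (A : Type u) [CommRing A] (Λ : Type u) [CommRing Λ] [Algebra A Λ]

/-- Finitely generated subalgebras. -/
abbrev FgIdx : Type u := {S : Subalgebra A Λ // S.FG}

instance : IsDirected (FgIdx A Λ) (· ≤ ·) :=
  ⟨fun S T => ⟨⟨S.1 ⊔ T.1, S.2.sup T.2⟩, le_sup_left (b := T.1), le_sup_right (a := S.1)⟩⟩

instance : Nonempty (FgIdx A Λ) := ⟨⟨⊥, Subalgebra.fg_bot⟩⟩

/-- The system of finitely generated subalgebras. -/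
def fgRing : FgIdx A Λ ⥤ CommRingCat.{u} where
  obj S := CommRingCat.of S.1
  map h := CommRingCat.ofHom (Subalgebra.inclusion h.le).toRingHom
  map_id _ := by ext x; rfl
  map_comp _ _ := by ext x; rfl

/-- The inclusions. -/
def fgCocone : Cocone (fgRing A Λ) where
  pt := CommRingCat.of Λ
  ι :=
    { app := fun S => CommRingCat.ofHom S.1.val.toRingHom
      naturality := fun _ _ _ => by ext x; rfl }

/-- An algebra is the colimit of its finitely generated subalgebras. -/
def isColimitFgCocone : IsColimit (fgCocone A Λ) :=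
  (AffLim.nonempty_isColimit_of_elementwise (fgCocone A Λ)
    (fun x => ⟨⟨Algebra.adjoin A {(x : Λ)}, ⟨{x}, by simp⟩⟩, ⟨x, Algebra.subset_adjoin rfl⟩, rfl⟩)
    (fun S x y e => ⟨S, le_rfl, by rw [show x = y from Subtype.ext e]⟩)).some

/-- The spectra of the finitely generated subalgebras. -/
def fgSys : (FgIdx A Λ)ᵒᵖ ⥤ Scheme.{u} := (fgRing A Λ).op ⋙ Scheme.Spec

/-- The cone with vertex `Spec Λ`. -/
def fgCone : Cone (fgSys A Λ) := Scheme.Spec.mapCone (fgCocone A Λ).op

/-- `Spec Λ` is the limit of the spectra of the finitely generated subalgebras. -/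
def isLimitFgCone : IsLimit (fgCone A Λ) := isLimitOfPreserves Scheme.Spec (isColimitFgCocone A Λ).op

instance (i : (FgIdx A Λ)ᵒᵖ) : IsAffine ((fgSys A Λ).obj i) :=
  inferInstanceAs (IsAffine (Spec (CommRingCat.of i.unop.1)))

instance {i j : (FgIdx A Λ)ᵒᵖ} (φ : i ⟶ j) : IsAffineHom ((fgSys A Λ).map φ) :=
  inferInstanceAs (IsAffineHom (Spec.map _))

/-- The structure maps to `Spec A`. -/
def fgToBase : fgSys A Λ ⟶ (Functor.const (FgIdx A Λ)ᵒᵖ).obj (Spec (CommRingCat.of A)) where
  app i := Spec.map (CommRingCat.ofHom (algebraMap A i.unop.1))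
  naturality i j φ := by
    refine Eq.trans ?_ (Category.comp_id _).symm
    exact (Spec.map_comp _ _).symm.trans (congrArg Spec.map (by ext x; rfl))

theorem fgCone_toBase (i : (FgIdx A Λ)ᵒᵖ) :
    (fgCone A Λ).π.app i ≫ (fgToBase A Λ).app i = Spec.map (CommRingCat.ofHom (algebraMap A Λ)) :=
  (Spec.map_comp _ _).symm.trans (congrArg Spec.map (by ext x; rfl))

end Subalg

end Groth.Agent.PropPi1
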