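import Groth.Agent.PropPi1.ThickEtale
import Groth.Agent.S0238

/-!
# Lifting finite étale covers of the closed part over a complete base
-/

set_option autoImplicit false
set_option linter.style.haveILetI false
set_option backward.isDefEq.respectTransparency false
set_option backward.isDefEq.respectTransparency.types false
universe u
open CategoryTheory CategoryTheory.Limits AlgebraicGeometry

noncomputable section

namespace Groth.Agent.PropPi1

/-- The cover `v` of `T` is a base change of a finite étale cover along `r`. -/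
def IsLiftable {T X V : Scheme.{u}} (r : T ⟶ X) (v : V ⟶ T) : Prop :=
  ∃ (Y : Scheme.{u}) (y : Y ⟶ X) (q : V ⟶ Y), IsFinite y ∧ Etale y ∧ IsPullback q v y r

theorem isLiftable_of_isEquivalence {T X V : Scheme.{u}} (r : T ⟶ X) [(FEt.restrict r).EssSurj]
    (v : V ⟶ T) [IsFinite v] [Etale v] : IsLiftable r v := by
  let V₀ : FEt.Cat T := MorphismProperty.Over.mk ⊤ v ⟨‹_›, ‹_›⟩
  let Y := (FEt.restrict r).objPreimage V₀
  let e := (FEt.restrict r).objObjPreimageIso V₀
  let e' : pullback Y.hom r ≅ V := (MorphismProperty.Over.forget _ ⊤ T ⋙ CategoryTheory.Over.forget T).mapIso e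
  refine ⟨Y.left, Y.hom, e'.inv ≫ pullback.fst Y.hom r, Y.prop.1, Y.prop.2, ?_⟩
  refine (IsPullback.of_hasPullback Y.hom r).of_iso e' (Iso.refl _) (Iso.refl _) (Iso.refl _)
    (by simp) ?_ (by simp) (by simp)
  rw [Iso.refl_hom, Category.comp_id]
  exact (CategoryTheory.Over.w ((MorphismProperty.Over.forget _ ⊤ T).map e.hom)).symm

theorem essSurj_of_isLiftable {T X : Scheme.{u}} (r : T ⟶ X)
    (h : ∀ (V : Scheme.{u}) (v : V ⟶ T), IsFinite v → Etale v → IsLiftable r v) :
    (FEt.restrict r).EssSurj := ⟨fun V₀ => by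
  obtain ⟨Y, y, q, hf, he, sq⟩ := h V₀.left V₀.hom V₀.prop.1 V₀.prop.2
  exact ⟨MorphismProperty.Over.mk ⊤ y ⟨hf, he⟩,
    ⟨(MorphismProperty.Over.isoMk sq.isoPullback sq.isoPullback_hom_snd).symm⟩⟩⟩

variable {A : Type u} [CommRing A] (I : Ideal A) {X : Scheme.{u}} (f : X ⟶ Spec (CommRingCat.of A))

theorem isPullback_thickTrans (n : ℕ) :
    IsPullback (CohB1.thickTrans f I n) (CohB1.thickToBase f I n) (CohB1.thickToBase f I (n + 1))
      (CohB1.specQuotTrans I n) := by
  have P1 := IsPullback.of_hasPullback f (CohB1.specQuot I n)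
  rw [← CohB1.specQuotTrans_specQuot] at P1
  refine IsPullback.of_right ?_ (pullback.lift_snd _ _ _) (IsPullback.of_hasPullback f (CohB1.specQuot I (n + 1)))
  rw [show CohB1.thickTrans f I n ≫ pullback.fst f (CohB1.specQuot I (n + 1)) =
    pullback.fst f (CohB1.specQuot I n) from (pullback.lift_fst _ _ _).trans (Category.comp_id _)]
  have P0 := IsPullback.of_hasPullback f (CohB1.specQuot I n)
  exact P0.of_iso (Iso.refl _) (Iso.refl _) (Iso.refl _) (Iso.refl _) (by simp) (by simp) (by simp)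
    (by simp)

theorem thickTrans_thick (n : ℕ) :
    IsClosedImmersion (CohB1.thickTrans f I n) ∧ Surjective (CohB1.thickTrans f I n) := by
  haveI : IsClosedImmersion (CohB1.specQuotTrans I n) :=
    IsClosedImmersion.spec_of_surjective _ (Ideal.Quotient.factor_surjective (Ideal.pow_le_pow_right (Nat.le_succ (n + 1))))
  haveI : Surjective (CohB1.specQuotTrans I n) := ⟨fun q => by
    have hle : I ^ (n + 1 + 1) ≤ I ^ (n + 1) := Ideal.pow_le_pow_right (Nat.le_succ (n + 1))
    refine (Set.ext_iff.1 (range_comap_of_surjective _ _ (Ideal.Quotient.factor_surjective hle)) q).2 ?_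
    intro x hx
    obtain ⟨a, rfl⟩ := Ideal.Quotient.mk_surjective x
    have ha : a ∈ I ^ (n + 1) := Ideal.Quotient.eq_zero_iff_mem.1 hx
    have h0 : Ideal.Quotient.mk (I ^ (n + 1 + 1)) (a ^ 2) = 0 :=
      Ideal.Quotient.eq_zero_iff_mem.2 (Ideal.pow_le_pow_right (show n + 1 + 1 ≤ (n + 1) * 2 by omega)
        (by rw [pow_mul]; exact Ideal.pow_mem_pow ha 2))
    refine q.2.mem_of_pow_mem 2 ?_
    rw [← map_pow, h0]
    exact q.asIdeal.zero_mem⟩
  exact ⟨MorphismProperty.of_isPullback (isPullback_thickTrans I f n).flip inferInstance,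
    MorphismProperty.of_isPullback (isPullback_thickTrans I f n).flip inferInstance⟩

/-- A cover of one thickening. -/
structure Cover (n : ℕ) : Type (u + 1) where
  Y : Scheme.{u}
  y : Y ⟶ CohB1.thick f I n
  fin : IsFinite y
  et : Etale y

theorem exists_next (n : ℕ) (c : Cover I f n) : ∃ (c' : Cover I f (n + 1)) (t : c.Y ⟶ c'.Y),
    IsPullback t c.y c'.y (CohB1.thickTrans f I n) := by
  obtain ⟨_, _⟩ := thickTrans_thick I f n
  haveI := S0238.result (CohB1.thickTrans f I n)
  haveI := c.fin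
  haveI := c.et
  obtain ⟨Y, y, q, hf, he, sq⟩ := isLiftable_of_isEquivalence (CohB1.thickTrans f I n) c.y
  exact ⟨⟨Y, y, hf, he⟩, q, sq⟩

/-- The compatible system of covers. -/
def tower (c₀ : Cover I f 0) : (n : ℕ) → Cover I f n
  | 0 => c₀
  | n + 1 => (exists_next I f n (tower c₀ n)).choose

/-- The algebraization statement used below. -/
def Algebraizable : Prop :=
  ∀ (Y : ℕ → Scheme.{u}) (y : (n : ℕ) → (Y n ⟶ CohB1.thick f I n)) (t : (n : ℕ) → (Y n ⟶ Y (n + 1))),
    (∀ n, IsFinite (y n)) → (∀ n, IsPullback (t n) (y n) (y (n + 1)) (CohB1.thickTrans f I n)) →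
    IsProper (y 0 ≫ CohB1.thickToBase f I 0) →
    ∃ (W : Scheme.{u}) (i : W ⟶ X) (w : (n : ℕ) → (Y n ⟶ W)), IsFinite i ∧
      IsProper (i ≫ f) ∧ (∀ n, w n = t n ≫ w (n + 1)) ∧ ∀ n, IsPullback (w n) (y n) i (CohB1.thickι f I n)

/-- Over an adically complete base, covers of the closed part of a proper scheme lift. -/
theorem isLiftable_complete [IsNoetherianRing A] [IsProper f] (hI : I ≤ Ideal.jacobson ⊥)
    (hA : Algebraizable I f) {V : Scheme.{u}} (v : V ⟶ CohB1.thick f I 0) [IsFinite v] [Etale v] :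
    IsLiftable (CohB1.thickι f I 0) v := by
  let c := tower I f ⟨V, v, ‹_›, ‹_›⟩
  let t : (n : ℕ) → ((c n).Y ⟶ (c (n + 1)).Y) := fun n => (exists_next I f n (c n)).choose_spec.choose
  have ht : ∀ n, IsPullback (t n) (c n).y (c (n + 1)).y (CohB1.thickTrans f I n) := fun n =>
    (exists_next I f n (c n)).choose_spec.choose_spec
  haveI : IsProper (CohB1.thickToBase f I 0) := MorphismProperty.pullback_snd _ _ inferInstance
  haveI : IsFinite (c 0).y := (c 0).fin
  obtain ⟨W, i, w, hi, -, -, hw⟩ := hA (fun n => (c n).Y) (fun n => (c n).y) t (fun n => (c n).fin) ht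
    inferInstance
  haveI := hi
  haveI : Etale i := etale_of_thickenings I f i hI fun n => by
    haveI := (c n).et
    rw [← (hw n).isoPullback_inv_snd]
    infer_instance
  exact ⟨W, i, w 0, hi, ‹_›, hw 0⟩

end Groth.Agent.PropPi1
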