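import Groth.Agent.HensH0.FEt
import Groth.Agent.FEtLib.GeomConn

/-!
# Pullback of covers to a proper scheme with geometrically connected closed fibre
-/

set_option autoImplicit false
set_option linter.style.haveILetI false
set_option backward.isDefEq.respectTransparency false
set_option backward.isDefEq.respectTransparency.types false
universe u
open CategoryTheory CategoryTheory.Limits AlgebraicGeometry

noncomputable section

namespace Groth.Agent.PropPi1

/-- Restriction along a composite is the composite of the restrictions. -/
def restrictCompIso {X Y Z : Scheme.{u}} (f : X ⟶ Y) (g : Y ⟶ Z) :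
    FEt.restrict (f ≫ g) ≅ FEt.restrict g ⋙ FEt.restrict f :=
  MorphismProperty.Over.pullbackComp f g

/-- Pullback of covers along a proper map with geometrically connected closed fibre to a henselian local
base is fully faithful. -/
theorem fullyFaithful_of_geomClosedFibre_connected {A : Type u} [CommRing A] [HenselianLocalRing A]
    {X : Scheme.{u}} (f : X ⟶ Spec (CommRingCat.of A)) [IsProper f]
    [ConnectedSpace ↥(pullback f (Spec.map (CommRingCat.ofHom ((algebraMap (IsLocalRing.ResidueField A)
      (AlgebraicClosure (IsLocalRing.ResidueField A))).comp (IsLocalRing.residue A)))))] :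
    (FEt.restrict f).Full ∧ (FEt.restrict f).Faithful := by
  let k := IsLocalRing.ResidueField A
  let I := IsLocalRing.maximalIdeal A
  haveI : HenselianRing A I := inferInstance
  let j := Spec.map (CommRingCat.ofHom (Ideal.Quotient.mk I))
  let fk : pullback f j ⟶ Spec (CommRingCat.of k) := pullback.snd f j
  let r := pullback.fst f j
  haveI : IsClosedImmersion j := IsClosedImmersion.spec_of_surjective _ Ideal.Quotient.mk_surjective
  haveI : IsClosedImmersion r := MorphismProperty.pullback_fst _ _ inferInstance
  obtain ⟨hr1, hr2⟩ := HensH0.fullyFaithful_of_range I f r (HensH0.range_fst_eq I f)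
  let a := Spec.map (CommRingCat.ofHom (algebraMap k (AlgebraicClosure k)))
  let ξ := Spec.map (CommRingCat.ofHom ((algebraMap k (AlgebraicClosure k)).comp (IsLocalRing.residue A)))
  have hξ : a ≫ j = ξ := (Spec.map_comp _ _).symm
  let e : pullback fk a ≅ pullback f ξ := pullbackLeftPullbackSndIso f j a ≪≫ pullback.congrHom rfl hξ
  haveI : ConnectedSpace ↥(pullback f ξ) := ‹_›
  haveI : ConnectedSpace ↥(pullback fk a) :=
    e.inv.homeomorph.surjective.connectedSpace e.inv.homeomorph.continuous
  obtain ⟨hk1, hk2⟩ := FEtLib.FieldBase.fullyFaithful_structure k fk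
  haveI := HensH0.isEquivalence_restrict_spec I
  haveI : (FEt.restrict j).IsEquivalence := HensH0.isEquivalence_restrict_spec I
  let i : FEt.restrict f ⋙ FEt.restrict r ≅ FEt.restrict j ⋙ FEt.restrict fk :=
    (restrictCompIso r f).symm ≪≫ eqToIso (congrArg FEt.restrict pullback.condition) ≪≫ restrictCompIso fk j
  haveI : (FEt.restrict fk).Full := hk1
  haveI : (FEt.restrict fk).Faithful := hk2
  haveI : (FEt.restrict f ⋙ FEt.restrict r).Full := Functor.Full.of_iso i.symm
  haveI : (FEt.restrict f ⋙ FEt.restrict r).Faithful := Functor.Faithful.of_iso i.symm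
  haveI : (FEt.restrict r).Faithful := hr2
  exact ⟨Functor.Full.of_comp_faithful (FEt.restrict f) (FEt.restrict r),
    Functor.Faithful.of_comp (FEt.restrict f) (FEt.restrict r)⟩

end Groth.Agent.PropPi1
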