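import Groth.Prelude
import Groth.Agent.S0591
import Groth.Agent.S9192
import Groth.Agent.S9187

/-!
# Finite étale covers of a limit come from a stage
-/

set_option autoImplicit false
set_option linter.style.haveILetI false
set_option backward.isDefEq.respectTransparency false
universe u
open CategoryTheory CategoryTheory.Limits AlgebraicGeometry

noncomputable section

namespace Groth.Agent.PropPi1

theorem stage_to_base {S S' X₀ Xi Yi : Scheme.{u}} {φ : S' ⟶ S} {f₀ : X₀ ⟶ S} {fi : Xi ⟶ Yi}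
    {gi : Yi ⟶ S'} {pY : Yi ⟶ S} {pX : Xi ⟶ X₀} (h1 : IsPullback pY gi (𝟙 S) φ)
    (h2 : IsPullback pX fi f₀ pY) : IsIso gi ∧ IsPullback pX (fi ≫ gi) f₀ φ := by
  haveI : IsIso gi := h1.isIso_snd_of_isIso
  refine ⟨‹_›, h2.of_iso (Iso.refl _) (Iso.refl _) (asIso gi) (Iso.refl _) (by simp) (by simp) (by simp) ?_⟩
  simpa using h1.w

/-- A finite étale cover of a cofiltered limit with affine transition maps comes from a stage. -/
theorem exists_finiteEtale_stage {J : Type u} [SmallCategory J] [IsCofiltered J]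
    (D : J ⥤ Scheme.{u}) (c : Limits.Cone D) (hc : Limits.IsLimit c)
    [∀ (i j : J) (f : i ⟶ j), IsAffineHom (D.map f)] [∀ i, CompactSpace (D.obj i)]
    [∀ i, QuasiSeparatedSpace (D.obj i)] {V : Scheme.{u}} (v : V ⟶ c.pt) [IsFinite v] [Etale v] :
    ∃ (i : J) (Vi : Scheme.{u}) (vi : Vi ⟶ D.obj i) (q : V ⟶ Vi),
      IsFinite vi ∧ Etale vi ∧ IsPullback q v vi (c.π.app i) := by
  obtain ⟨i, V₀, v₀, q₀, hlfp, hqc, hqs, sq₀⟩ := S0591.result D c hc V v
  haveI := hlfp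
  haveI : CompactSpace V₀ := QuasiCompact.compactSpace_of_compactSpace v₀
  haveI : QuasiSeparatedSpace V₀ := quasiSeparatedSpace_of_quasiSeparated v₀
  obtain ⟨j, φ, Xj, Yj, fj, gj, pY, pX, h1, h2, hf⟩ := S9192.result D c hc i v₀ (𝟙 _) v (𝟙 c.pt) (c.π.app i) q₀
    (IsPullback.of_id_snd) sq₀
  obtain ⟨_, sq₁⟩ := stage_to_base h1 h2
  let v₁ := fj ≫ gj
  haveI : Etale v₁ := inferInstance
  haveI : QuasiCompact v₁ := MorphismProperty.of_isPullback sq₁ hqc
  haveI : QuasiSeparated v₁ := MorphismProperty.of_isPullback sq₁ hqs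
  haveI : CompactSpace Xj := QuasiCompact.compactSpace_of_compactSpace v₁
  haveI : QuasiSeparatedSpace Xj := quasiSeparatedSpace_of_quasiSeparated v₁
  let q₁ : V ⟶ Xj := sq₁.lift q₀ (v ≫ c.π.app j) (by rw [Category.assoc, c.w φ]; exact sq₀.w)
  have sqj : IsPullback q₁ v v₁ (c.π.app j) :=
    IsPullback.of_right (by rw [sq₁.lift_fst, c.w φ]; exact sq₀) (sq₁.lift_snd _ _ _) sq₁
  obtain ⟨k, ψ, Xk, Yk, fk, gk, pY', pX', h1', h2', hfin⟩ := S9187.result D c hc j v₁ (𝟙 _) v (𝟙 c.pt)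
    (c.π.app j) q₁ (IsPullback.of_id_snd) sqj
  obtain ⟨_, sq₂⟩ := stage_to_base h1' h2'
  haveI : Etale (fk ≫ gk) := MorphismProperty.of_isPullback sq₂ ‹Etale v₁›
  haveI : IsFinite (fk ≫ gk) := inferInstance
  refine ⟨k, Xk, fk ≫ gk, sq₂.lift q₁ (v ≫ c.π.app k) (by rw [Category.assoc, c.w ψ]; exact sqj.w),
    ‹_›, ‹_›, IsPullback.of_right ?_ (sq₂.lift_snd _ _ _) sq₂⟩
  rw [sq₂.lift_fst, c.w ψ]
  exact sqj

end Groth.Agent.PropPi1
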