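import Groth.Agent.PropPi1.LimBC
import Groth.Agent.PropPi1.LimEss
import Groth.Agent.PropPi1.Complete
import Groth.Agent.S0289
import Groth.Agent.Unibranch.Radicial
import Mathlib.FieldTheory.PurelyInseparable.Basic

/-!
# Covers of the geometric base change over a field
-/

set_option autoImplicit false
set_option linter.style.haveILetI false
set_option backward.isDefEq.respectTransparency false
set_option backward.isDefEq.respectTransparency.types false
universe u
open CategoryTheory CategoryTheory.Limits AlgebraicGeometry Opposite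

noncomputable section

namespace Groth.Agent.PropPi1

/-- Finite purely inseparable field extensions are universal homeomorphisms. -/
theorem univHomeo_specMap {K L : Type u} [Field K] [Field L] [Algebra K L] [IsPurelyInseparable K L]
    [Module.Finite K L] :
    IsIntegralHom (Spec.map (CommRingCat.ofHom (algebraMap K L))) ∧
      UniversallyInjective (Spec.map (CommRingCat.ofHom (algebraMap K L))) ∧
        Surjective (Spec.map (CommRingCat.ofHom (algebraMap K L))) := by
  haveI : IsFinite (Spec.map (CommRingCat.ofHom (algebraMap K L))) :=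
    (IsFinite.SpecMap_iff _).2 (RingHom.finite_algebraMap.2 inferInstance)
  refine ⟨inferInstance, Unibranch.universallyInjective_specMap_iff.2 fun F _ a b hab => ?_,
    ⟨fun p => ⟨(⟨⊥, Ideal.isPrime_bot⟩ : PrimeSpectrum L), @Subsingleton.elim (PrimeSpectrum K) _ _ p⟩⟩⟩
  exact IsPurelyInseparable.injective_comp_algebraMap K L F hab

/-- A morphism over the base which is monic gives an open and closed immersion of covers. -/
theorem isClopenImmersion_of_mono {V P X : Scheme.{u}} (ι : V ⟶ P) (p : P ⟶ X) [Mono ι] [IsFinite p] [Etale p]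
    [IsFinite (ι ≫ p)] [Etale (ι ≫ p)] : IsOpenImmersion ι ∧ IsClosedImmersion ι := by
  haveI : Etale ι := Etale.of_comp ι p
  haveI : IsFinite ι := IsFinite.of_comp ι p
  exact ⟨IsOpenImmersion.of_flat_of_mono ι, (IsClosedImmersion.iff_isFinite_and_mono ι).2 ⟨‹_›, ‹_›⟩⟩

/-- The base change of a finite étale cover of a finite étale cover. -/
theorem exists_cover_of_baseChange {X X'' X' W V : Scheme.{u}} (π : X'' ⟶ X) [IsFinite π] [Etale π]
    (p : X' ⟶ X'') (w : W ⟶ X'') [IsFinite w] [Etale w] (q : V ⟶ W) (v : V ⟶ X') [IsFinite v] [Etale v]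
    (sq : IsPullback q v w p) (b : X' ⟶ X) (hb : p ≫ π = b) :
    ∃ (U : FEt.Cat X) (ι : V ⟶ pullback U.hom b),
      ι ≫ pullback.snd U.hom b = v ∧ IsOpenImmersion ι ∧ IsClosedImmersion ι := by
  let U : FEt.Cat X := MorphismProperty.Over.mk ⊤ (w ≫ π) ⟨inferInstance, inferInstance⟩
  let ι : V ⟶ pullback U.hom b :=
    pullback.lift q v (by rw [← hb]; exact ((Category.assoc q w π).symm.trans ((congrArg (· ≫ π) sq.w).trans (Category.assoc v p π))))
  have hι : ι ≫ pullback.snd U.hom b = v := pullback.lift_snd _ _ _
  haveI : Mono ι := ⟨fun g h e => sq.hom_ext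
    (by simpa [ι] using congrArg (· ≫ pullback.fst U.hom b) e)
    (by simpa [ι] using congrArg (· ≫ pullback.snd U.hom b) e)⟩
  haveI : IsFinite (pullback.snd U.hom b) := MorphismProperty.pullback_snd _ _ U.prop.1
  haveI : Etale (pullback.snd U.hom b) := MorphismProperty.pullback_snd _ _ U.prop.2
  haveI : IsFinite (ι ≫ pullback.snd U.hom b) := hι.symm ▸ ‹IsFinite v›
  haveI : Etale (ι ≫ pullback.snd U.hom b) := hι.symm ▸ ‹Etale v›
  exact ⟨U, ι, hι, isClopenImmersion_of_mono ι (pullback.snd U.hom b)⟩

variable {k : Type u} [Field k] {X : Scheme.{u}} (f : X ⟶ Spec (CommRingCat.of k)) [CompactSpace X]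
  [QuasiSeparatedSpace X] (Ω : Type u) [Field Ω] [Algebra k Ω] [Algebra.IsAlgebraic k Ω]

/-- A cover of the base change to an algebraic extension is clopen in the base change of a cover. -/
theorem exists_clopen_in_baseChange (V : FEt.Cat (pullback f (Spec.map (CommRingCat.ofHom (algebraMap k Ω))))) :
    ∃ (U : FEt.Cat X) (ι : V ⟶ (FEt.restrict (pullback.fst f (Spec.map (CommRingCat.ofHom (algebraMap k Ω))))).obj U),
      IsOpenImmersion ι.left ∧ IsClosedImmersion ι.left := by
  let g := Spec.map (CommRingCat.ofHom (algebraMap k Ω))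
  let v : V.left ⟶ pullback f g := V.hom
  haveI : IsFinite v := V.prop.1
  haveI : Etale v := V.prop.2
  let D := bcDiag (fgToBase k Ω) f
  haveI : ∀ i j (φ : i ⟶ j), IsAffineHom (D.map φ) := fun i j φ => isAffineHom_bcDiag _ _ φ
  haveI : ∀ i, CompactSpace (D.obj i) := fun i =>
    QuasiCompact.compactSpace_of_compactSpace (pullback.fst f ((fgToBase k Ω).app i))
  haveI : ∀ i, QuasiSeparatedSpace (D.obj i) := fun i =>
    quasiSeparatedSpace_of_quasiSeparated (pullback.fst f ((fgToBase k Ω).app i))
  obtain ⟨hlim⟩ := nonempty_isLimit_bcCone (fgToBase k Ω) f (fgCone k Ω) g (fgCone_toBase k Ω) (isLimitFgCone k Ω)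
  obtain ⟨i, Wi, wi, qi, hif, hie, sqi⟩ := exists_finiteEtale_stage D
    (bcCone (fgToBase k Ω) f (fgCone k Ω) g (fgCone_toBase k Ω)) hlim v
  haveI := hif
  haveI := hie
  let L := i.unop.1
  haveI : Algebra.IsAlgebraic k L := ⟨fun x =>
    (isAlgebraic_algHom_iff L.val Subtype.val_injective).1 (Algebra.IsAlgebraic.isAlgebraic (x : Ω))⟩
  haveI : Algebra.IsIntegral k L := Algebra.IsAlgebraic.isIntegral
  letI : Field L := (isField_of_isIntegral_of_isField' (Field.toIsField k)).toField
  haveI : Algebra.FiniteType k L := (Subalgebra.fg_iff_finiteType L).1 i.unop.2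
  haveI : Module.Finite k L := Algebra.IsIntegral.finite
  let S := separableClosure k L
  haveI : Module.Finite S L := Module.Finite.of_restrictScalars_finite k S L
  haveI : Algebra.FinitePresentation k S := Algebra.FinitePresentation.of_finiteType.1 inferInstance
  haveI : Algebra.FormallyUnramified k S := Algebra.FormallyUnramified.of_isSeparable k S
  haveI : Algebra.Etale k S := Algebra.Etale.of_formallyUnramified_of_flat
  let aS := Spec.map (CommRingCat.ofHom (algebraMap k S))
  let aL := Spec.map (CommRingCat.ofHom (algebraMap S L))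
  let π := pullback.fst f aS
  haveI : IsFinite aS := (IsFinite.SpecMap_iff _).2 (RingHom.finite_algebraMap.2 inferInstance)
  haveI : Etale aS := (HasRingHomProperty.Spec_iff (P := @Etale)).2 (RingHom.etale_algebraMap.2 inferInstance)
  haveI : IsFinite π := MorphismProperty.pullback_fst _ _ inferInstance
  haveI : Etale π := MorphismProperty.pullback_fst _ _ inferInstance
  have haL : aL ≫ aS = (fgToBase k Ω).app i :=
    (Spec.map_comp _ _).symm.trans (congrArg Spec.map (CommRingCat.hom_ext (IsScalarTower.algebraMap_eq k S L).symm))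
  let h : D.obj i ⟶ pullback f aS :=
    pullback.map f ((fgToBase k Ω).app i) f aS (𝟙 X) aL (𝟙 _) (by simp) (by rw [Category.comp_id, haL])
  have hh : IsPullback h (pullback.snd f ((fgToBase k Ω).app i)) (pullback.snd f aS) aL :=
    IsPullback.of_right (by
      rw [pullback.lift_fst, Category.comp_id, haL]
      exact IsPullback.of_hasPullback f ((fgToBase k Ω).app i)) (pullback.lift_snd _ _ _) (IsPullback.of_hasPullback f aS)
  obtain ⟨h1, h2, h3⟩ := univHomeo_specMap (K := S) (L := L)
  haveI : IsIntegralHom h := MorphismProperty.of_isPullback hh.flip h1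
  haveI : UniversallyInjective h := MorphismProperty.of_isPullback hh.flip h2
  haveI : Surjective h := MorphismProperty.of_isPullback hh.flip h3
  haveI := S0289.result h
  obtain ⟨W, w, qw, hwf, hwe, sqw⟩ := isLiftable_of_isEquivalence h wi
  haveI := hwf
  haveI := hwe
  have sq := sqi.paste_horiz sqw
  obtain ⟨U, ι, hι, ho, hc⟩ := exists_cover_of_baseChange π _ w _ v sq (pullback.fst f g)
    (by simp [π, h, bcCone, D])
  exact ⟨U, MorphismProperty.Over.homMk ι hι, ho, hc⟩

end Groth.Agent.PropPi1
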