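import Groth.Agent.PropPi1.ExtField
import Groth.Agent.PropPi1.LimBC
import Groth.Agent.PropPi1.LimEss
import Groth.Agent.PropPi1.Complete
import Groth.Agent.PropPi1.Surj
import Groth.Agent.HensH0.FEt
import Groth.Agent.S0506
import Groth.Agent.S0509

/-!
# Covers of proper schemes are insensitive to extensions of algebraically closed fields
-/

set_option autoImplicit false
set_option linter.style.haveILetI false
set_option backward.isDefEq.respectTransparency false
set_option backward.isDefEq.respectTransparency.types false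
universe u
open CategoryTheory CategoryTheory.Limits AlgebraicGeometry Opposite TensorProduct

noncomputable section

namespace Groth.Agent.PropPi1

theorem henselianLocalRing_field (k : Type u) [Field k] : HenselianLocalRing k where
  is_henselian f _ a₀ h₁ _ := ⟨a₀, by
    rw [IsLocalRing.maximalIdeal_eq_bot, Ideal.mem_bot] at h₁
    exact h₁, by simp⟩

/-- Specs of two field-valued points of `R` are dominated by a common one, when one comes from a flat algebra. -/
theorem exists_common_field {R : Type u} [CommRing R] (H K : Type u) [CommRing H] [Field K] [Algebra R H]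
    [Algebra R K] [Module.Flat R H] [Nontrivial H] (hR : Function.Injective (algebraMap R K)) :
    ∃ (L : Type u) (_ : Field L) (_ : IsAlgClosed L) (a : K →+* L) (b : H →+* L),
      a.comp (algebraMap R K) = b.comp (algebraMap R H) := by
  let T := H ⊗[R] K
  haveI : Nontrivial T := by
    have hi : Function.Injective ((Algebra.linearMap R K).lTensor H) :=
      Module.Flat.lTensor_preserves_injective_linearMap _ hR
    obtain ⟨x, y, hxy⟩ := exists_pair_ne (H ⊗[R] R)
      |> fun e => (show ∃ x y : H ⊗[R] R, x ≠ y from by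
        haveI : Nontrivial (H ⊗[R] R) := (TensorProduct.rid R H).toEquiv.nontrivial
        exact exists_pair_ne _)
    exact ⟨⟨_, _, fun h => hxy (hi h)⟩⟩
  obtain ⟨M, hM⟩ := Ideal.exists_maximal T
  letI := Ideal.Quotient.field M
  let π : T →+* AlgebraicClosure (T ⧸ M) := (algebraMap (T ⧸ M) _).comp (Ideal.Quotient.mk M)
  refine ⟨AlgebraicClosure (T ⧸ M), inferInstance, inferInstance,
    π.comp (Algebra.TensorProduct.includeRight (R := R) (A := H) (B := K)).toRingHom,
    π.comp Algebra.TensorProduct.includeLeftRingHom, RingHom.ext fun r => congrArg π ?_⟩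
  show (1 : H) ⊗ₜ[R] algebraMap R K r = algebraMap R H r ⊗ₜ[R] (1 : K)
  rw [Algebra.algebraMap_eq_smul_one, Algebra.algebraMap_eq_smul_one, TensorProduct.tmul_smul,
    TensorProduct.smul_tmul']

theorem exists_restrict_iso {k k' : Type u} [Field k] [Field k'] [IsAlgClosed k] [IsAlgClosed k'] [Algebra k k']
    {X : Scheme.{u}} (f : X ⟶ Spec (CommRingCat.of k)) [IsProper f]
    (V : FEt.Cat (pullback f (Spec.map (CommRingCat.ofHom (algebraMap k k'))))) :
    ∃ Y : FEt.Cat X, Nonempty ((FEt.restrict (pullback.fst f (Spec.map (CommRingCat.ofHom (algebraMap k k'))))).obj Y ≅ V) := by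
  let g := Spec.map (CommRingCat.ofHom (algebraMap k k'))
  let r := pullback.fst f g
  haveI : CompactSpace X := QuasiCompact.compactSpace_of_compactSpace f
  haveI : QuasiSeparatedSpace X := quasiSeparatedSpace_of_quasiSeparated f
  let v : V.left ⟶ pullback f g := V.hom
  haveI : IsFinite v := V.prop.1
  haveI : Etale v := V.prop.2
  let D := bcDiag (fgToBase k k') f
  haveI : ∀ i j (φ : i ⟶ j), IsAffineHom (D.map φ) := fun i j φ => isAffineHom_bcDiag _ _ φ
  haveI : ∀ i, CompactSpace (D.obj i) := fun i =>
    QuasiCompact.compactSpace_of_compactSpace (pullback.fst f ((fgToBase k k').app i))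
  haveI : ∀ i, QuasiSeparatedSpace (D.obj i) := fun i =>
    quasiSeparatedSpace_of_quasiSeparated (pullback.fst f ((fgToBase k k').app i))
  obtain ⟨hlim⟩ := nonempty_isLimit_bcCone (fgToBase k k') f (fgCone k k') g (fgCone_toBase k k') (isLimitFgCone k k')
  obtain ⟨i, Wi, wi, qi, hif, hie, sqi⟩ := exists_finiteEtale_stage D
    (bcCone (fgToBase k k') f (fgCone k k') g (fgCone_toBase k k')) hlim v
  haveI := hif
  haveI := hie
  let R := i.unop.1
  let W : FEt.Cat (D.obj i) := MorphismProperty.Over.mk ⊤ wi ⟨hif, hie⟩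
  -- a rational point of the stage and the henselization there
  haveI : Algebra.FiniteType k R := (Subalgebra.fg_iff_finiteType R).1 i.unop.2
  obtain ⟨m, hm⟩ := Ideal.exists_maximal R
  letI := Ideal.Quotient.field m
  haveI : Algebra.FiniteType k (R ⧸ m) := inferInstance
  haveI : Module.Finite k (R ⧸ m) := finite_of_finite_type_of_isJacobsonRing k _
  haveI : Algebra.IsIntegral k (R ⧸ m) := Algebra.IsIntegral.of_finite k _
  let ek : k ≃ₐ[k] (R ⧸ m) := AlgEquiv.ofBijective (Algebra.ofId k _)
    (IsAlgClosed.algebraMap_bijective_of_isIntegral (k := k) (K := R ⧸ m))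
  let s₀ : R →ₐ[k] k := ek.symm.toAlgHom.comp (Ideal.Quotient.mkₐ k m)
  have hs₀ : RingHom.ker s₀.toRingHom = m := by
    ext x
    rw [RingHom.mem_ker]
    show ek.symm (Ideal.Quotient.mk m x) = 0 ↔ _
    rw [map_eq_zero_iff _ ek.symm.injective, Ideal.Quotient.eq_zero_iff_mem]
  let P := Localization.AtPrime m
  have hu : ∀ x : m.primeCompl, IsUnit (s₀.toRingHom x) := fun x => by
    refine isUnit_iff_ne_zero.2 fun h => x.2 ?_
    exact (SetLike.ext_iff.1 hs₀ (x : R)).1 (RingHom.mem_ker.2 h)
  let sP : P →+* k := IsLocalization.lift hu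
  haveI := henselianLocalRing_field k
  haveI : IsLocalHom sP := ⟨fun a ha => by
    obtain ⟨x, t, rfl⟩ := IsLocalization.exists_mk'_eq m.primeCompl a
    refine (IsLocalization.AtPrime.isUnit_mk'_iff (R := R) P m x t).2 fun hx => ?_
    rw [IsLocalization.lift_mk'] at ha
    have : s₀.toRingHom x = 0 := by rw [← RingHom.mem_ker, hs₀]; exact hx
    rw [this, zero_mul] at ha
    exact not_isUnit_zero ha⟩
  obtain ⟨H, _, _, _, _, hH⟩ := S0506.result P
  haveI := hH.henselian
  haveI := S0509.result P H
  obtain ⟨σ, hσ, -⟩ := hH.universal k sP ‹_›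
  let ρ : R →+* H := (algebraMap P H).comp (algebraMap R P)
  have hσρ : σ.comp ρ = s₀.toRingHom := by
    rw [← RingHom.comp_assoc, hσ]
    exact IsLocalization.lift_comp hu
  letI : Algebra R H := ρ.toAlgebra
  haveI : IsScalarTower R P H := IsScalarTower.of_algebraMap_eq' rfl
  haveI : Module.Flat R H := Module.Flat.trans R P H
  let kH : k →+* H := ρ.comp (algebraMap k R)
  have hσk : σ.comp kH = RingHom.id k := by
    rw [← RingHom.comp_assoc, hσρ]
    exact RingHom.ext fun x => s₀.commutes x
  have hσs : Function.Surjective σ := fun x => ⟨kH x, RingHom.congr_fun hσk x⟩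
  let gH := Spec.map (CommRingCat.ofHom kH)
  let sg := Spec.map (CommRingCat.ofHom σ)
  have hsg : sg ≫ gH = 𝟙 _ := by
    refine (Spec.map_comp _ _).symm.trans ((congrArg Spec.map ?_).trans (Spec.map_id _))
    exact CommRingCat.hom_ext hσk
  let XH := pullback f gH
  let fH : XH ⟶ Spec (CommRingCat.of H) := pullback.snd f gH
  haveI : IsProper fH := MorphismProperty.pullback_snd _ _ inferInstance
  let c : X ⟶ XH := pullback.lift (𝟙 X) (f ≫ sg) (by rw [Category.assoc, hsg, Category.id_comp, Category.comp_id])
  have hc : IsPullback c f fH sg := by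
    refine IsPullback.of_right ?_ (pullback.lift_snd _ _ _) (IsPullback.of_hasPullback f gH)
    rw [pullback.lift_fst, hsg]
    exact IsPullback.of_horiz_isIso ⟨by simp⟩
  haveI : IsClosedImmersion sg := IsClosedImmersion.spec_of_surjective _ hσs
  haveI : IsClosedImmersion c := MorphismProperty.of_isPullback hc.flip inferInstance
  have hker : RingHom.ker σ = IsLocalRing.maximalIdeal H :=
    IsLocalRing.eq_maximalIdeal (RingHom.ker_isMaximal_of_surjective σ hσs)
  haveI : HenselianRing H (IsLocalRing.maximalIdeal H) := Hensel.henselianRing_maximalIdeal_iff.2 inferInstance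
  have hrange : Set.range c = fH ⁻¹' PrimeSpectrum.zeroLocus (IsLocalRing.maximalIdeal H : Set H) := by
    have h1 : Set.range sg = PrimeSpectrum.zeroLocus (IsLocalRing.maximalIdeal H : Set H) := by
      rw [← hker]
      exact range_comap_of_surjective _ _ hσs
    rw [← h1, ← Scheme.Pullback.range_fst fH sg, show c = hc.isoPullback.hom ≫ pullback.fst fH sg from
      (hc.isoPullback_hom_fst).symm]
    ext z
    constructor
    · rintro ⟨a, rfl⟩
      exact ⟨hc.isoPullback.hom a, (Scheme.Hom.comp_apply _ _ _).symm⟩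
    · rintro ⟨a, rfl⟩
      refine ⟨hc.isoPullback.inv a, ?_⟩
      rw [← Scheme.Hom.comp_apply, Iso.inv_hom_id_assoc]
  obtain ⟨hfull, hfaith⟩ := HensH0.fullyFaithful_of_range (IsLocalRing.maximalIdeal H) fH c hrange
  -- the two covers over the henselization
  let a : XH ⟶ D.obj i := pullback.map f gH f ((fgToBase k k').app i) (𝟙 X) (Spec.map (CommRingCat.ofHom ρ)) (𝟙 _)
    (by simp) (by
      rw [Category.comp_id]
      exact (congrArg Spec.map (show CommRingCat.ofHom kH =
        CommRingCat.ofHom (algebraMap k R) ≫ CommRingCat.ofHom ρ from rfl)).trans (Spec.map_comp _ _))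
  let p := pullback.fst f gH
  let Y : FEt.Cat X := (FEt.restrict (c ≫ a)).obj W
  let Y₁ := (FEt.restrict a).obj W
  let Y₂ := (FEt.restrict p).obj Y
  have hcp : c ≫ p = 𝟙 X := pullback.lift_fst _ _ _
  let e₀ : (FEt.restrict c).obj Y₁ ≅ (FEt.restrict c).obj Y₂ :=
    ((restrictCompIso c a).app W).symm ≪≫ (MorphismProperty.Over.isoMk (asIso (pullback.fst Y.hom (𝟙 X))) (pullback.condition.trans (Category.comp_id _)) :
      (FEt.restrict (𝟙 X)).obj Y ≅ Y).symm ≪≫
      (eqToIso (congrArg FEt.restrict hcp.symm)).app Y ≪≫ (restrictCompIso c p).app Y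
  haveI := hfull
  haveI := hfaith
  let e₁ : Y₁ ≅ Y₂ := (FEt.restrict c).preimageIso e₀
  -- a common algebraically closed field
  obtain ⟨L, _, _, α, β, hαβ⟩ := exists_common_field (R := R) H k' Subtype.val_injective
  let _ : Algebra k' L := α.toAlgebra
  let gL := Spec.map (CommRingCat.ofHom (algebraMap k' L))
  obtain ⟨hfull', hfaith'⟩ := fullyFaithful_extField L (pullback.snd f g)
  let c' := pullback.fst (pullback.snd f g) gL
  let bH : pullback (pullback.snd f g) gL ⟶ XH :=
    pullback.lift (c' ≫ r) (pullback.snd _ _ ≫ Spec.map (CommRingCat.ofHom β)) (by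
      rw [Category.assoc, Category.assoc, show r ≫ f = pullback.snd f g ≫ g from pullback.condition,
        ← Category.assoc, pullback.condition, Category.assoc]
      congr 1
      refine (Spec.map_comp _ _).symm.trans ((congrArg Spec.map ?_).trans (Spec.map_comp _ _))
      ext x
      exact RingHom.congr_fun hαβ (algebraMap k R x))
  let πi := (bcCone (fgToBase k k') f (fgCone k k') g (fgCone_toBase k k')).π.app i
  have h₁ : c' ≫ πi = bH ≫ a := by
    apply pullback.hom_ext
    · simp [πi, bH, a, r, bcCone, D]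
    · simp only [πi, bH, a, bcCone, pullback.map, Category.assoc, pullback.lift_snd, pullback.lift_snd_assoc]
      rw [← Category.assoc, pullback.condition, Category.assoc]
      congr 1
      refine (Spec.map_comp _ _).symm.trans ((congrArg Spec.map ?_).trans (Spec.map_comp _ _))
      ext x
      exact RingHom.congr_fun hαβ x
  have h₂ : bH ≫ p = c' ≫ r := pullback.lift_fst _ _ _
  let eV : (FEt.restrict πi).obj W ≅ V :=
    (MorphismProperty.Over.isoMk sqi.isoPullback sqi.isoPullback_hom_snd).symm
  let e₂ : (FEt.restrict c').obj ((FEt.restrict r).obj Y) ≅ (FEt.restrict c').obj V :=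
    ((restrictCompIso c' r).app Y).symm ≪≫ (eqToIso (congrArg FEt.restrict h₂.symm)).app Y ≪≫
      (restrictCompIso bH p).app Y ≪≫ (FEt.restrict bH).mapIso e₁.symm ≪≫
      ((restrictCompIso bH a).app W).symm ≪≫ (eqToIso (congrArg FEt.restrict h₁.symm)).app W ≪≫
      (restrictCompIso c' πi).app W ≪≫ (FEt.restrict c').mapIso eV
  haveI := hfull'
  haveI := hfaith'
  exact ⟨Y, ⟨(FEt.restrict c').preimageIso e₂⟩⟩

theorem isEquivalence_algClosed_baseChange (k k' : Type u) [Field k] [Field k'] [IsAlgClosed k] [IsAlgClosed k']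
    [Algebra k k'] {X : Scheme.{u}} (f : X ⟶ Spec (CommRingCat.of k)) [IsProper f] :
    (FEt.restrict (pullback.fst f (Spec.map (CommRingCat.ofHom (algebraMap k k'))))).IsEquivalence := by
  obtain ⟨h1, h2⟩ := fullyFaithful_extField k' f
  haveI := h1
  haveI := h2
  haveI : (FEt.restrict (pullback.fst f (Spec.map (CommRingCat.ofHom (algebraMap k k'))))).EssSurj :=
    ⟨fun V => exists_restrict_iso f V⟩
  exact Functor.IsEquivalence.mk

end Groth.Agent.PropPi1
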