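import Groth.Agent.PropPi1.Reduce
import Groth.Agent.FormalSysLib.FiniteScheme

/-!
# The algebraization input of the theorem on covers of proper schemes over henselian pairs
-/

set_option autoImplicit false

universe u

open CategoryTheory CategoryTheory.Limits AlgebraicGeometry

namespace Groth.Agent.PropPi1

theorem algebraizationStatement : AlgebraizationStatement.{u} :=
  fun _ _ _ _ _ _ f _ Y y t hy ht hp => FormalSys.exists_algebraize_finite f Y y t hy ht hp

end Groth.Agent.PropPi1
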