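import Groth.Agent.PropPi1.Main
import Groth.Agent.PropPi1.Geom
import Groth.Agent.PropPi1.Surj

/-!
# Covers of the geometric closed fibre
-/

set_option autoImplicit false
set_option linter.style.haveILetI false
set_option backward.isDefEq.respectTransparency false
set_option backward.isDefEq.respectTransparency.types false
universe u
open CategoryTheory CategoryTheory.Limits AlgebraicGeometry Opposite

noncomputable section

namespace Groth.Agent.PropPi1

/-- Restriction to the closed fibre of a proper scheme over a henselian local ring is an equivalence. -/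
theorem isEquivalence_restrict_closedFibre (hS : AlgebraizationStatement.{u}) {A : Type u} [CommRing A]
    [HenselianLocalRing A] {X : Scheme.{u}} (f : X ⟶ Spec (CommRingCat.of A)) [IsProper f] :
    (FEt.restrict (pullback.fst f (Spec.map (CommRingCat.ofHom (IsLocalRing.residue A))))).IsEquivalence := by
  haveI : HenselianRing A (IsLocalRing.maximalIdeal A) := inferInstance
  exact isEquivalence_restrict hS (IsLocalRing.maximalIdeal A) f

/-- Covers of the geometric closed fibre are clopen in restrictions of covers. -/
theorem exists_clopen_geomClosedFibre (hS : AlgebraizationStatement.{u}) {A : Type u} [CommRing A]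
    [HenselianLocalRing A] {X : Scheme.{u}} (f : X ⟶ Spec (CommRingCat.of A)) [IsProper f]
    (ξ : Spec (CommRingCat.of (AlgebraicClosure (IsLocalRing.ResidueField A))) ⟶ Spec (CommRingCat.of A))
    (hξ : ξ = Spec.map (CommRingCat.ofHom ((algebraMap (IsLocalRing.ResidueField A)
      (AlgebraicClosure (IsLocalRing.ResidueField A))).comp (IsLocalRing.residue A))))
    (V : FEt.Cat (pullback f ξ)) :
    ∃ (U : FEt.Cat X) (ι : V ⟶ (FEt.restrict (pullback.fst f ξ)).obj U),
      IsOpenImmersion ι.left ∧ IsClosedImmersion ι.left := by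
  let k := IsLocalRing.ResidueField A
  let j := Spec.map (CommRingCat.ofHom (IsLocalRing.residue A))
  let fk := pullback.snd f j
  let a := Spec.map (CommRingCat.ofHom (algebraMap k (AlgebraicClosure k)))
  have hja : a ≫ j = ξ := hξ ▸ (Spec.map_comp _ _).symm
  haveI : IsProper fk := MorphismProperty.pullback_snd _ _ inferInstance
  haveI : CompactSpace ↥(pullback f j) := QuasiCompact.compactSpace_of_compactSpace fk
  haveI : QuasiSeparatedSpace ↥(pullback f j) := quasiSeparatedSpace_of_quasiSeparated fk
  let e : pullback fk a ≅ pullback f ξ := pullbackLeftPullbackSndIso f j a ≪≫ pullback.congrHom rfl hja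
  let v : V.left ⟶ pullback f ξ := V.hom
  haveI : IsFinite v := V.prop.1
  haveI : Etale v := V.prop.2
  haveI : IsFinite (v ≫ e.inv) := inferInstance
  haveI : Etale (v ≫ e.inv) := inferInstance
  obtain ⟨U₀, ι₀, ho, hc⟩ := exists_clopen_in_baseChange fk (AlgebraicClosure k)
    (MorphismProperty.Over.mk ⊤ (v ≫ e.inv) ⟨‹_›, ‹_›⟩ : FEt.Cat (pullback fk a))
  let ι₁ : V.left ⟶ pullback U₀.hom (pullback.fst fk a) := ι₀.left
  have hι₁ : ι₁ ≫ pullback.snd U₀.hom (pullback.fst fk a) = v ≫ e.inv :=
    CategoryTheory.Over.w ι₀.hom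
  haveI := isEquivalence_restrict_closedFibre hS f
  let u₀ : U₀.left ⟶ pullback f j := U₀.hom
  haveI : IsFinite u₀ := U₀.prop.1
  haveI : Etale u₀ := U₀.prop.2
  obtain ⟨Y, y, q, hyf, hye, sq⟩ := isLiftable_of_isEquivalence (pullback.fst f j) u₀
  let P := pullback y (pullback.fst f ξ)
  let m : pullback U₀.hom (pullback.fst fk a) ⟶ P :=
    pullback.lift (pullback.fst _ _ ≫ q) (pullback.snd _ _ ≫ e.hom)
      (by
        have he : e.hom ≫ pullback.fst f ξ = pullback.fst fk a ≫ pullback.fst f j := by simp [e, fk]
        rw [Category.assoc, Category.assoc, he, sq.w, ← Category.assoc, pullback.condition, Category.assoc])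
  haveI : IsIso m := by
    have he : e.hom ≫ pullback.fst f ξ = pullback.fst fk a ≫ pullback.fst f j := by simp [e, fk]
    have P1 := (IsPullback.of_hasPullback U₀.hom (pullback.fst fk a)).paste_horiz sq
    rw [← he] at P1
    have P2 : IsPullback m (pullback.snd U₀.hom (pullback.fst fk a)) (pullback.snd y (pullback.fst f ξ)) e.hom :=
      IsPullback.of_right (by rw [pullback.lift_fst]; exact P1) (pullback.lift_snd _ _ _)
        (IsPullback.of_hasPullback y (pullback.fst f ξ))
    exact P2.isIso_fst_of_isIso
  haveI : IsOpenImmersion ι₁ := ho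
  haveI : IsClosedImmersion ι₁ := hc
  refine ⟨MorphismProperty.Over.mk ⊤ y ⟨hyf, hye⟩, MorphismProperty.Over.homMk (ι₁ ≫ m) ?_,
    (inferInstance : IsOpenImmersion (ι₁ ≫ m)), (inferInstance : IsClosedImmersion (ι₁ ≫ m))⟩
  show (ι₁ ≫ m) ≫ pullback.snd y (pullback.fst f ξ) = v
  rw [Category.assoc, pullback.lift_snd, ← Category.assoc, hι₁, Category.assoc, Iso.inv_hom_id, Category.comp_id]

end Groth.Agent.PropPi1
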