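import Groth.Agent.PropPi1.Algebraization
import Groth.Agent.PropPi1.Corollaries
import Groth.Agent.FEtLib.FieldExact

/-!
# Covers with a section over the geometric closed fibre come from the base
-/

set_option autoImplicit false
set_option linter.style.haveILetI false
set_option backward.isDefEq.respectTransparency false
set_option backward.isDefEq.respectTransparency.types false
universe u
open CategoryTheory CategoryTheory.Limits AlgebraicGeometry

noncomputable section

namespace Groth.Agent.PropPi1

/-- The closed part of a connected scheme, proper over a henselian pair, is connected. -/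
theorem connectedSpace_closedPart {A : Type u} [CommRing A] (I : Ideal A) [HenselianRing A I] {X T : Scheme.{u}}
    (f : X ⟶ Spec (CommRingCat.of A)) [IsProper f] [ConnectedSpace X] (e : T ⟶ X) [IsClosedImmersion e]
    (he : Set.range e = f ⁻¹' PrimeSpectrum.zeroLocus (I : Set A)) : ConnectedSpace T := by
  obtain ⟨x, -, hx⟩ := HensH0.nonempty_inter I f Set.univ isClosed_univ ⟨Nonempty.some inferInstance, trivial⟩
  rw [HensH0.range_fst_eq, ← he] at hx
  obtain ⟨t, -⟩ := hx
  haveI : Nonempty T := ⟨t⟩
  refine connectedSpace_iff_clopen.2 ⟨inferInstance, fun C hC => ?_⟩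
  obtain ⟨W, hW, rfl⟩ := HensH0.exists_clopen_lift_of_range I f e he C hC
  rcases isClopen_iff.1 hW with rfl | rfl
  · exact Or.inl Set.preimage_empty
  · exact Or.inr Set.preimage_univ

/-- Exactness in the middle over a henselian local ring. -/
theorem exists_iso_of_section_geomClosedFibre {A : Type u} [CommRing A] [HenselianLocalRing A]
    {X : Scheme.{u}} (f : X ⟶ Spec (CommRingCat.of A)) [IsProper f]
    (ξ : Spec (CommRingCat.of (AlgebraicClosure (IsLocalRing.ResidueField A))) ⟶ Spec (CommRingCat.of A))
    (hξ : ξ = Spec.map (CommRingCat.ofHom ((algebraMap (IsLocalRing.ResidueField A)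
      (AlgebraicClosure (IsLocalRing.ResidueField A))).comp (IsLocalRing.residue A))))
    [ConnectedSpace ↥(pullback f ξ)] (Y : FEt.Cat X) [ConnectedSpace Y.left]
    (σ : pullback f ξ ⟶ Y.left) (hσ : σ ≫ Y.hom = pullback.fst f ξ) :
    ∃ T : FEt.Cat (Spec (CommRingCat.of A)), Nonempty ((FEt.restrict f).obj T ≅ Y) := by
  let k := IsLocalRing.ResidueField A
  let I := IsLocalRing.maximalIdeal A
  haveI : HenselianRing A I := inferInstance
  let j := Spec.map (CommRingCat.ofHom (Ideal.Quotient.mk I))
  let fk : pullback f j ⟶ Spec (CommRingCat.of k) := pullback.snd f j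
  let r := pullback.fst f j
  let a := Spec.map (CommRingCat.ofHom (algebraMap k (AlgebraicClosure k)))
  haveI : IsClosedImmersion j := IsClosedImmersion.spec_of_surjective _ Ideal.Quotient.mk_surjective
  haveI : IsClosedImmersion r := MorphismProperty.pullback_fst _ _ inferInstance
  haveI : IsProper fk := MorphismProperty.pullback_snd _ _ inferInstance
  haveI : CompactSpace ↥(pullback f j) := QuasiCompact.compactSpace_of_compactSpace fk
  haveI : QuasiSeparatedSpace ↥(pullback f j) := quasiSeparatedSpace_of_quasiSeparated fk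
  have hja : a ≫ j = ξ := hξ ▸ (Spec.map_comp _ _).symm
  let e : pullback fk a ≅ pullback f ξ := pullbackLeftPullbackSndIso f j a ≪≫ pullback.congrHom rfl hja
  haveI : ConnectedSpace ↥(pullback fk a) :=
    e.inv.homeomorph.surjective.connectedSpace e.inv.homeomorph.continuous
  have he : e.hom ≫ pullback.fst f ξ = pullback.fst fk a ≫ r := by simp [e, fk, r]
  let y : Y.left ⟶ X := Y.hom
  haveI : IsFinite y := Y.prop.1
  haveI : IsProper (y ≫ f) := inferInstance
  haveI : IsClosedImmersion (pullback.fst y r) := MorphismProperty.pullback_fst _ _ inferInstance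
  have hrange : Set.range (pullback.fst y r) = (y ≫ f) ⁻¹' PrimeSpectrum.zeroLocus (I : Set A) := by
    rw [Scheme.Pullback.range_fst, HensH0.range_fst_eq I f]
    rfl
  haveI hY₀ : ConnectedSpace ↥(pullback y r) := connectedSpace_closedPart I (y ≫ f) (pullback.fst y r) hrange
  let Y₀ := (FEt.restrict r).obj Y
  haveI : ConnectedSpace ↥Y₀.left := hY₀
  let σ₀ : pullback fk a ⟶ pullback y r := pullback.lift (e.hom ≫ σ) (pullback.fst fk a)
    (by rw [Category.assoc]; exact (congrArg (e.hom ≫ ·) hσ).trans he)
  obtain ⟨S', ⟨i₀⟩⟩ := FEtLib.FieldBase.exists_iso_of_section k fk Y₀ σ₀ (pullback.lift_snd _ _ _)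
  haveI : (FEt.restrict j).IsEquivalence := HensH0.isEquivalence_restrict_spec I
  haveI : (FEt.restrict r).IsEquivalence := isEquivalence_restrict algebraizationStatement I f
  let iso : FEt.restrict f ⋙ FEt.restrict r ≅ FEt.restrict j ⋙ FEt.restrict fk :=
    (restrictCompIso r f).symm ≪≫ eqToIso (congrArg FEt.restrict pullback.condition) ≪≫ restrictCompIso fk j
  refine ⟨(FEt.restrict j).objPreimage S', ⟨(FEt.restrict r).preimageIso (iso.app _ ≪≫ ?_ ≪≫ i₀)⟩⟩
  exact (FEt.restrict fk).mapIso ((FEt.restrict j).objObjPreimageIso S')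

end Groth.Agent.PropPi1
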