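import Groth.Agent.FEtLib.Restrict
import Groth.Agent.S7590

/-!
# Base change of covers along an extension of separably closed fields is fully faithful
-/

set_option autoImplicit false
set_option linter.style.haveILetI false
set_option backward.isDefEq.respectTransparency false
set_option backward.isDefEq.respectTransparency.types false
universe u
open CategoryTheory CategoryTheory.Limits AlgebraicGeometry

noncomputable section

namespace Groth.Agent.PropPi1

variable {k : Type u} [Field k] [IsSepClosed k] (K : Type u) [Field K] [Algebra k K] {X : Scheme.{u}}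
  (f : X ⟶ Spec (CommRingCat.of k))

theorem fullyFaithful_extField :
    (FEt.restrict (pullback.fst f (Spec.map (CommRingCat.ofHom (algebraMap k K))))).Full ∧
      (FEt.restrict (pullback.fst f (Spec.map (CommRingCat.ofHom (algebraMap k K))))).Faithful := by
  let g := Spec.map (CommRingCat.ofHom (algebraMap k K))
  let r := pullback.fst f g
  haveI : UniversallyOpen g := inferInstance
  haveI : Surjective g := ⟨fun p => ⟨(⟨⊥, Ideal.isPrime_bot⟩ : PrimeSpectrum K), @Subsingleton.elim (PrimeSpectrum k) _ _ p⟩⟩
  haveI : Surjective r := MorphismProperty.pullback_fst _ _ inferInstance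
  have hm : FEtLib.MeetsClopens r := fun U _ ⟨x, hx⟩ => by
    obtain ⟨x', rfl⟩ := r.surjective x
    exact ⟨x', hx⟩
  refine ⟨FEtLib.full r hm fun W V hV => ?_, FEtLib.faithful r hm⟩
  let w : W.left ⟶ X := W.hom
  letI : W.left.Over (Spec (CommRingCat.of k)) := ⟨w ≫ f⟩
  let p := pullback.fst w r
  let e := pullbackRightPullbackFstIso f g w
  let q : pullback (w ≫ f) g ⟶ W.left := pullback.fst _ _
  have hp : ∀ z, p z = q (e.hom z) := fun z => by
    rw [← Scheme.Hom.comp_apply]
    have : e.hom ≫ q = p := pullbackRightPullbackFstIso_hom_fst f g w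
    rw [this]
  haveI : Surjective p := MorphismProperty.pullback_fst _ _ ‹Surjective r›
  haveI : UniversallyOpen r := MorphismProperty.pullback_fst _ _ ‹UniversallyOpen g›
  haveI : UniversallyOpen p := MorphismProperty.pullback_fst _ _ ‹UniversallyOpen r›
  have hcomp : ∀ a b, p a = p b → (a ∈ V ↔ b ∈ V) := fun a b hab => by
    have hinj : Function.Injective q.continuous.connectedComponentsMap := (S7590.result k W.left K).1
    have h1 : (_root_.ConnectedComponents.mk (e.hom a) : _root_.ConnectedComponents _) = _root_.ConnectedComponents.mk (e.hom b) := by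
      apply hinj
      show _root_.ConnectedComponents.mk (q (e.hom a)) = _root_.ConnectedComponents.mk (q (e.hom b))
      rw [← hp, ← hp, hab]
    have hc : IsClopen (e.inv.base ⁻¹' V) := hV.preimage e.inv.continuous
    have h2 := _root_.ConnectedComponents.coe_eq_coe'.1 h1
    have hinv : ∀ c, e.inv (e.hom c) = c := fun c => by rw [← Scheme.Hom.comp_apply, Iso.hom_inv_id]; rfl
    constructor
    · intro ha
      have := hc.connectedComponent_subset (x := e.hom a) (by show e.inv (e.hom a) ∈ V; rw [hinv]; exact ha)
        (connectedComponent_eq h2 ▸ mem_connectedComponent)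
      rwa [Set.mem_preimage, show e.inv.base (e.hom b) = b from hinv b] at this
    · intro hb
      have := hc.connectedComponent_subset (x := e.hom b) (by show e.inv (e.hom b) ∈ V; rw [hinv]; exact hb) h2
      rwa [Set.mem_preimage, show e.inv.base (e.hom a) = a from hinv a] at this
  refine ⟨p '' V, ⟨⟨?_⟩, p.isOpenMap _ hV.2⟩, ?_⟩
  · have : (p '' V)ᶜ = p '' Vᶜ := by
      ext y
      obtain ⟨a, rfl⟩ := p.surjective y
      exact ⟨fun h => ⟨a, fun ha => h ⟨a, ha, rfl⟩, rfl⟩,
        fun ⟨b, hb, hba⟩ ⟨c, hc, hca⟩ => hb ((hcomp c b (hca.trans hba.symm)).1 hc)⟩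
    rw [this]
    exact p.isOpenMap _ hV.compl.2
  · ext a
    exact ⟨fun ⟨b, hb, hba⟩ => (hcomp b a hba).1 hb, fun ha => ⟨a, ha, rfl⟩⟩

end Groth.Agent.PropPi1
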