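import Groth.Agent.PropPi1.Complete
import Groth.Agent.PropPi1.LimEss
import Groth.Agent.PropPi1.LimBC
import Groth.Agent.ArtinApproxLib.Functor
import Groth.Agent.GRingCompleteLib.Completion
import Groth.Agent.RegLocal.Completion

/-!
# Lifting covers of the closed part: henselian G-rings
-/

set_option autoImplicit false
set_option linter.style.haveILetI false
set_option backward.isDefEq.respectTransparency false
set_option backward.isDefEq.respectTransparency.types false
universe u
open CategoryTheory CategoryTheory.Limits AlgebraicGeometry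

noncomputable section

namespace Groth.Agent.PropPi1

variable {A : Type u} [CommRing A] (I : Ideal A)

/-- A point of the completion in a finitely presented algebra is approximated modulo `I` by a point of `A`. -/
theorem exists_approx_algHom [IsNoetherianRing A] [HenselianRing A I] (hG : CAlg.IsGRing A)
    {C : Type u} [CommRing C] [Algebra A C] [Algebra.FinitePresentation A C]
    (π : C →ₐ[A] AdicCompletion I A) (N : ℕ) :
    ∃ s : C →ₐ[A] A, ∀ x : C, Ideal.Quotient.mk (I ^ N) (s x) = AdicCompletion.evalₐ I N (π x) := by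
  obtain ⟨n, g, hg, hker⟩ := Algebra.FinitePresentation.out (R := A) (A := C)
  obtain ⟨m, F, hF⟩ := Submodule.fg_iff_exists_fin_generating_family.1 hker
  obtain ⟨b, hb, hb'⟩ := ArtinApproxLib.exists_approx I
    (GRingCompleteLib.isRegularHom_adicCompletion A hG I) F (fun i => π (g (MvPolynomial.X i)))
    (fun j => by
      have h1 : F j ∈ RingHom.ker g := hF ▸ Ideal.subset_span ⟨j, rfl⟩
      have h2 : (MvPolynomial.aeval fun i => π (g (MvPolynomial.X i))) = π.comp g :=
        MvPolynomial.algHom_ext fun i => by simp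
      rw [h2, AlgHom.comp_apply, RingHom.mem_ker.1 h1, map_zero]) N
  let φ : MvPolynomial (Fin n) A →ₐ[A] A := MvPolynomial.aeval b
  have hk : RingHom.ker g ≤ RingHom.ker φ := by
    rw [show RingHom.ker g = Ideal.span (Set.range F) from hF.symm, Ideal.span_le]
    rintro _ ⟨j, rfl⟩
    exact hb j
  refine ⟨(Ideal.Quotient.liftₐ (RingHom.ker g) φ fun a ha => hk ha).comp
    (Ideal.quotientKerAlgEquivOfSurjective hg).symm.toAlgHom, fun x => ?_⟩
  obtain ⟨p, rfl⟩ := hg x
  have h3 : ((Ideal.quotientKerAlgEquivOfSurjective hg).symm (g p)) = Ideal.Quotient.mk _ p := by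
    rw [AlgEquiv.symm_apply_eq]
    rfl
  rw [AlgHom.comp_apply]
  show Ideal.Quotient.mk _ (Ideal.Quotient.liftₐ _ φ _ ((Ideal.quotientKerAlgEquivOfSurjective hg).symm (g p))) = _
  rw [h3]
  show (Ideal.Quotient.mkₐ A (I ^ N)).comp φ p = ((AdicCompletion.evalₐ I N).comp (π.comp g)) p
  congr 1
  refine MvPolynomial.algHom_ext fun i => ?_
  have h4 : AdicCompletion.evalₐ I N (π (g (MvPolynomial.X i)) - algebraMap A _ (b i)) = 0 :=
    (CMCat.evalₐ_eq_zero_iff I.fg_of_isNoetherianRing N _).2 (by rw [Ideal.map_pow]; rw [Ideal.map_pow] at hb'; exact hb' i)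
  rw [map_sub, AlgHom.commutes, sub_eq_zero] at h4
  rw [AlgHom.comp_apply, AlgHom.comp_apply, AlgHom.comp_apply, h4, MvPolynomial.aeval_X]
  rfl

/-- Over a henselian G-ring, covers of the closed part of a proper scheme lift. -/
theorem isLiftable_gRing [HenselianRing A I] (hG : CAlg.IsGRing A) {X : Scheme.{u}}
    (f : X ⟶ Spec (CommRingCat.of A)) [IsProper f]
    (hA : Algebraizable (I.map (algebraMap A (AdicCompletion I A)))
      (pullback.snd f (Spec.map (CommRingCat.ofHom (algebraMap A (AdicCompletion I A))))))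
    {V : Scheme.{u}} (v : V ⟶ CohB1.thick f I 0) [IsFinite v] [Etale v] :
    IsLiftable (CohB1.thickι f I 0) v := by
  haveI := hG.1
  let Λ := AdicCompletion I A
  haveI : IsNoetherianRing Λ := RegLocal.isNoetherianRing_completion A I
  haveI : IsAdicComplete (I.map (algebraMap A Λ)) Λ := AdicCompletion.isAdicComplete_self I I.fg_of_isNoetherianRing
  let Ih := I.map (algebraMap A Λ)
  let g := Spec.map (CommRingCat.ofHom (algebraMap A Λ))
  let fh := pullback.snd f g
  haveI : IsProper fh := MorphismProperty.pullback_snd _ _ inferInstance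
  let ev : Λ →ₐ[A] A ⧸ I ^ (0 + 1) := AdicCompletion.evalₐ I (0 + 1)
  let eb : Spec (CommRingCat.of (A ⧸ I ^ (0 + 1))) ⟶ Spec (CommRingCat.of Λ) :=
    Spec.map (CommRingCat.ofHom ev.toRingHom)
  have heb : eb ≫ g = CohB1.specQuot I 0 :=
    (Spec.map_comp _ _).symm.trans (congrArg Spec.map (CommRingCat.hom_ext ev.comp_algebraMap))
  let e : CohB1.thick f I 0 ⟶ pullback f g :=
    pullback.lift (CohB1.thickι f I 0) (CohB1.thickToBase f I 0 ≫ eb)
      (by rw [Category.assoc, heb]; exact pullback.condition)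
  -- the factorisation through the closed part of the completed scheme
  have hker : ∀ x ∈ Ih ^ (0 + 1), ev x = 0 := by
    intro x hx
    have hk : (I ^ (0 + 1)).map (algebraMap A Λ) ≤ RingHom.ker ev.toRingHom :=
      Ideal.map_le_iff_le_comap.2 fun a ha =>
        (ev.commutes a).trans (Ideal.Quotient.eq_zero_iff_mem.2 ha)
    exact RingHom.mem_ker.1 (hk (by rw [Ideal.map_pow]; exact hx))
  let eq₀ : Spec (CommRingCat.of (A ⧸ I ^ (0 + 1))) ⟶ Spec (CommRingCat.of (Λ ⧸ Ih ^ (0 + 1))) :=
    Spec.map (CommRingCat.ofHom (Ideal.Quotient.lift (Ih ^ (0 + 1)) ev.toRingHom hker))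
  have heq₀ : eq₀ ≫ CohB1.specQuot Ih 0 = eb :=
    (Spec.map_comp _ _).symm.trans (congrArg Spec.map (by ext x; rfl))
  let e' : CohB1.thick f I 0 ⟶ CohB1.thick fh Ih 0 :=
    pullback.lift e (CohB1.thickToBase f I 0 ≫ eq₀)
      (by rw [Category.assoc, heq₀]; exact pullback.lift_snd _ _ _)
  have hle : I ^ (0 + 1) ≤ (Ih ^ (0 + 1)).comap (algebraMap A Λ) := by
    rw [← Ideal.map_le_iff_le_comap, Ideal.map_pow]
  let mb : Spec (CommRingCat.of (Λ ⧸ Ih ^ (0 + 1))) ⟶ Spec (CommRingCat.of (A ⧸ I ^ (0 + 1))) :=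
    Spec.map (CommRingCat.ofHom (Ideal.quotientMap (Ih ^ (0 + 1)) (algebraMap A Λ) hle))
  have hmb : mb ≫ CohB1.specQuot I 0 = CohB1.specQuot Ih 0 ≫ g :=
    (Spec.map_comp _ _).symm.trans ((congrArg Spec.map (by ext x; rfl)).trans (Spec.map_comp _ _))
  let m : CohB1.thick fh Ih 0 ⟶ CohB1.thick f I 0 :=
    pullback.lift (CohB1.thickι fh Ih 0 ≫ pullback.fst f g) (CohB1.thickToBase fh Ih 0 ≫ mb)
      (by
        rw [Category.assoc, Category.assoc, hmb, pullback.condition (f := f), ← Category.assoc,
          pullback.condition (f := fh), Category.assoc])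
  have hb0 : eq₀ ≫ mb = 𝟙 _ := by
    refine (Spec.map_comp _ _).symm.trans ((congrArg Spec.map ?_).trans (Spec.map_id _))
    ext x
    exact ev.commutes x
  have hm : e' ≫ m = 𝟙 _ := by
    apply pullback.hom_ext
    · rw [Category.assoc, pullback.lift_fst, ← Category.assoc, pullback.lift_fst, pullback.lift_fst, Category.id_comp]
    · rw [Category.assoc, pullback.lift_snd, ← Category.assoc, pullback.lift_snd, Category.assoc, hb0,
        Category.comp_id, Category.id_comp]
  haveI : IsFinite (pullback.snd v m) := MorphismProperty.pullback_snd _ _ inferInstance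
  haveI : Etale (pullback.snd v m) := MorphismProperty.pullback_snd _ _ inferInstance
  obtain ⟨W, w, q, hwf, hwe, sq⟩ := isLiftable_complete Ih fh (IsAdicComplete.le_jacobson_bot Ih) hA
    (pullback.snd v m)
  haveI := hwf
  haveI := hwe
  let l : V ⟶ pullback v m := pullback.lift (𝟙 V) (v ≫ e') (by rw [Category.assoc, hm, Category.id_comp, Category.comp_id])
  have sql : IsPullback l v (pullback.snd v m) e' :=
    IsPullback.of_right (by rw [pullback.lift_fst, hm]; exact IsPullback.of_horiz_isIso ⟨by simp⟩)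
      (pullback.lift_snd _ _ _) (IsPullback.of_hasPullback v m)
  have sqe : IsPullback (l ≫ q) v w e := by
    have := sql.paste_horiz sq
    rwa [show e' ≫ CohB1.thickι fh Ih 0 = e from pullback.lift_fst _ _ _] at this
  -- descend to a finitely generated subalgebra
  let D := bcDiag (fgToBase A Λ) f
  haveI : ∀ i j (φ : i ⟶ j), IsAffineHom (D.map φ) := fun i j φ => isAffineHom_bcDiag _ _ φ
  haveI : ∀ i, CompactSpace (D.obj i) := fun i =>
    QuasiCompact.compactSpace_of_compactSpace (pullback.snd f ((fgToBase A Λ).app i))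
  haveI : ∀ i, QuasiSeparatedSpace (D.obj i) := fun i =>
    quasiSeparatedSpace_of_quasiSeparated (pullback.snd f ((fgToBase A Λ).app i))
  obtain ⟨hlim⟩ := nonempty_isLimit_bcCone (fgToBase A Λ) f (fgCone A Λ) g (fgCone_toBase A Λ) (isLimitFgCone A Λ)
  obtain ⟨i, Wi, wi, qi, hif, hie, sqi⟩ := exists_finiteEtale_stage D
    (bcCone (fgToBase A Λ) f (fgCone A Λ) g (fgCone_toBase A Λ)) hlim w
  haveI := hif
  haveI := hie
  let C := i.unop.1
  haveI : Algebra.FiniteType A C := (Subalgebra.fg_iff_finiteType C).1 i.unop.2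
  haveI : Algebra.FinitePresentation A C := Algebra.FinitePresentation.of_finiteType.1 inferInstance
  obtain ⟨s, hs⟩ := exists_approx_algHom I hG C.val (0 + 1)
  let sb : Spec (CommRingCat.of A) ⟶ Spec (CommRingCat.of C) := Spec.map (CommRingCat.ofHom s.toRingHom)
  have hsb : sb ≫ (fgToBase A Λ).app i = 𝟙 _ :=
    (Spec.map_comp _ _).symm.trans ((congrArg Spec.map (by ext x; exact s.commutes x)).trans (Spec.map_id _))
  let σ : X ⟶ D.obj i := pullback.lift (𝟙 X) (f ≫ sb) (by rw [Category.assoc, hsb, Category.id_comp, Category.comp_id])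
  have hσ : e ≫ (bcCone (fgToBase A Λ) f (fgCone A Λ) g (fgCone_toBase A Λ)).π.app i =
      CohB1.thickι f I 0 ≫ σ := by
    have hsnd : eb ≫ (fgCone A Λ).π.app i = CohB1.specQuot I 0 ≫ sb :=
      (Spec.map_comp _ _).symm.trans ((congrArg Spec.map (by ext x; exact (hs x).symm)).trans (Spec.map_comp _ _))
    apply pullback.hom_ext
    · simp [σ, e, bcCone]
    · simp only [σ, e, bcCone, pullback.map, Category.assoc, pullback.lift_snd, pullback.lift_snd_assoc]
      rw [hsnd, ← Category.assoc, ← Category.assoc, ← pullback.condition]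
  have sqt := sqe.paste_horiz sqi
  rw [hσ] at sqt
  haveI : IsFinite (pullback.snd wi σ) := MorphismProperty.pullback_snd _ _ inferInstance
  haveI : Etale (pullback.snd wi σ) := MorphismProperty.pullback_snd _ _ inferInstance
  refine ⟨pullback wi σ, pullback.snd wi σ, pullback.lift ((l ≫ q) ≫ qi) (v ≫ CohB1.thickι f I 0)
    (by rw [Category.assoc v]; exact sqt.w), ‹_›, ‹_›, ?_⟩
  exact IsPullback.of_right (by rw [pullback.lift_fst]; exact sqt) (pullback.lift_snd _ _ _)
    (IsPullback.of_hasPullback wi σ)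

end Groth.Agent.PropPi1
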