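import Mathlib
import Groth.Agent.InfNbhdLib.Flat

/-!
# Finite algebras étale modulo all powers of an ideal
-/

set_option autoImplicit false
set_option linter.style.haveILetI false
universe u
open TensorProduct IsLocalRing

namespace Groth.Agent.PropPi1

variable {R S : Type u} [CommRing R] [CommRing S] [Algebra R S] [IsNoetherianRing R] [Module.Finite R S]

/-- Over a Noetherian local ring, a finite algebra étale modulo all powers of an ideal is étale. -/
theorem etale_of_quotients_local [IsLocalRing R] (I : Ideal R) (hI : I ≤ maximalIdeal R)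
    (h : ∀ n : ℕ, Algebra.Etale (R ⧸ I ^ n) ((R ⧸ I ^ n) ⊗[R] S)) : Algebra.Etale R S := by
  haveI : Module.Flat R S := InfNbhdLib.flat_of_flat_quotient_pow (S := R) I hI fun n => by
    haveI := h n
    infer_instance
  haveI : Algebra.FinitePresentation R S :=
    Algebra.FinitePresentation.of_finiteType.1 inferInstance
  haveI : Subsingleton (KaehlerDifferential R S) := by
    let Q := R ⧸ I ^ 1
    haveI := h 1
    letI : Algebra S (Q ⊗[R] S) := Algebra.TensorProduct.rightAlgebra
    haveI : Subsingleton (Q ⊗[R] KaehlerDifferential R S) :=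
      (KaehlerDifferential.tensorKaehlerEquivBase R Q S (Q ⊗[R] S)).toEquiv.subsingleton
    haveI : Module.Finite R (KaehlerDifferential R S) := Module.Finite.trans S _
    have hT : (⊤ : Submodule R (KaehlerDifferential R S)) ≤ (I ^ 1) • ⊤ := by
      have hs : Subsingleton (KaehlerDifferential R S ⧸ ((I ^ 1) • ⊤ : Submodule R (KaehlerDifferential R S))) :=
        (TensorProduct.quotTensorEquivQuotSMul _ (I ^ 1)).symm.toEquiv.subsingleton
      exact (Submodule.Quotient.subsingleton_iff.1 hs).ge
    rw [pow_one] at hT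
    have := Submodule.eq_bot_of_le_smul_of_le_jacobson_bot I (⊤ : Submodule R (KaehlerDifferential R S))
      Module.Finite.fg_top hT (hI.trans (IsLocalRing.maximalIdeal_le_jacobson ⊥))
    exact (Submodule.subsingleton_iff R).1 (subsingleton_iff_bot_eq_top.1 this.symm)
  haveI : Algebra.FormallyUnramified R S := ⟨inferInstance⟩
  exact Algebra.Etale.of_formallyUnramified_of_flat

/-- A finite algebra over a Noetherian ring, étale modulo all powers of `I`, is étale at the primes above `I`. -/
theorem isEtaleAt_of_quotients (I : Ideal R)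
    (h : ∀ n : ℕ, Algebra.Etale (R ⧸ I ^ n) ((R ⧸ I ^ n) ⊗[R] S))
    (q : Ideal S) [q.IsPrime] (hq : I ≤ q.comap (algebraMap R S)) : Algebra.IsEtaleAt R q := by
  let p := q.comap (algebraMap R S)
  let Rp := Localization.AtPrime p
  haveI : Algebra.Etale Rp (Rp ⊗[R] S) := by
    refine etale_of_quotients_local (I.map (algebraMap R Rp))
      ((Ideal.map_mono hq).trans (Localization.AtPrime.map_eq_maximalIdeal).le) fun n => ?_
    let Qn := Rp ⧸ I.map (algebraMap R Rp) ^ n
    have hle : I ^ n ≤ (I.map (algebraMap R Rp) ^ n).comap (algebraMap R Rp) := by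
      rw [← Ideal.map_le_iff_le_comap, Ideal.map_pow]
    letI : Algebra (R ⧸ I ^ n) Qn := (Ideal.quotientMap _ (algebraMap R Rp) hle).toAlgebra
    haveI : IsScalarTower R (R ⧸ I ^ n) Qn := IsScalarTower.of_algebraMap_eq fun x => rfl
    haveI := h n
    let e := (Algebra.TensorProduct.cancelBaseChange R (R ⧸ I ^ n) Qn Qn S).trans
      (Algebra.TensorProduct.cancelBaseChange R Rp Qn Qn S).symm
    haveI he : Algebra.Etale Qn (Qn ⊗[R ⧸ I ^ n] ((R ⧸ I ^ n) ⊗[R] S)) := inferInstance
    exact @Algebra.Etale.of_equiv Qn _ _ _ _ _ _ _ he e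
  letI : Algebra S (Rp ⊗[R] S) := Algebra.TensorProduct.rightAlgebra
  haveI : IsLocalization (Algebra.algebraMapSubmonoid S p.primeCompl) (Rp ⊗[R] S) := by
    haveI := IsLocalization.tensor (R := R) (S := S) Rp p.primeCompl
    exact IsLocalization.isLocalization_of_algEquiv _
      ({ Algebra.TensorProduct.comm R S Rp with commutes' := fun _ => rfl } : S ⊗[R] Rp ≃ₐ[S] Rp ⊗[R] S)
  haveI : Algebra.FormallyEtale R Rp := Algebra.FormallyEtale.of_isLocalization p.primeCompl
  haveI : Algebra.FormallyEtale R (Rp ⊗[R] S) := Algebra.FormallyEtale.comp R Rp (Rp ⊗[R] S)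
  have hu : ∀ y : Algebra.algebraMapSubmonoid S p.primeCompl,
      IsUnit (algebraMap S (Localization.AtPrime q) y) := by
    rintro ⟨_, x, hx, rfl⟩
    exact IsLocalization.map_units _ (⟨algebraMap R S x, hx⟩ : q.primeCompl)
  let g : Rp ⊗[R] S →ₐ[S] Localization.AtPrime q :=
    IsLocalization.liftAlgHom (M := Algebra.algebraMapSubmonoid S p.primeCompl) (f := Algebra.ofId _ _) hu
  letI := g.toRingHom.toAlgebra
  haveI : IsScalarTower S (Rp ⊗[R] S) (Localization.AtPrime q) :=
    IsScalarTower.of_algebraMap_eq fun x => (g.commutes x).symm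
  haveI : IsScalarTower R (Rp ⊗[R] S) (Localization.AtPrime q) := IsScalarTower.to₁₃₄ _ S _ _
  haveI : IsLocalization (q.primeCompl.map (algebraMap S (Rp ⊗[R] S))) (Localization.AtPrime q) :=
    IsLocalization.isLocalization_of_submonoid_le (Rp ⊗[R] S) _ (Algebra.algebraMapSubmonoid S p.primeCompl) _
      (by rintro _ ⟨x, hx, rfl⟩; exact hx)
  haveI : Algebra.FormallyEtale (Rp ⊗[R] S) (Localization.AtPrime q) :=
    Algebra.FormallyEtale.of_isLocalization (q.primeCompl.map (algebraMap S (Rp ⊗[R] S)))
  exact Algebra.FormallyEtale.comp R (Rp ⊗[R] S) (Localization.AtPrime q)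

end Groth.Agent.PropPi1
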