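import Groth.Agent.PropPi1.Reduce
import Groth.Agent.S2079
import Groth.Agent.HensH0.FEt

/-!
# Finite étale covers of a proper scheme over a henselian pair
-/

set_option autoImplicit false
set_option linter.style.haveILetI false
set_option backward.isDefEq.respectTransparency false
set_option backward.isDefEq.respectTransparency.types false
universe u
open CategoryTheory CategoryTheory.Limits AlgebraicGeometry Opposite

noncomputable section

namespace Groth.Agent.PropPi1

/-- Covers of the closed part of a proper scheme over a henselian pair lift. -/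
theorem isLiftable_proper (hS : AlgebraizationStatement.{u}) {A : Type u} [CommRing A] (I : Ideal A)
    [HenselianRing A I] {X : Scheme.{u}} (f : X ⟶ Spec (CommRingCat.of A)) [IsProper f]
    {V : Scheme.{u}} (v : V ⟶ CohB1.thick f I 0) [IsFinite v] [Etale v] :
    IsLiftable (CohB1.thickι f I 0) v := by
  obtain ⟨J, _, _, D, c, hc, e, htr, hpi⟩ := S2079.result f
  haveI := IsCofiltered.isConnected J
  let F := CategoryTheory.Over.forget (Spec (CommRingCat.of A))
  let D₀ := D ⋙ F
  let t : D₀ ⟶ (Functor.const J).obj (Spec (CommRingCat.of A)) :=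
    { app := fun j => (D.obj j).hom
      naturality := fun i j a => (CategoryTheory.Over.w (D.map a)).trans (Category.comp_id _).symm }
  have hc₀ : IsLimit (F.mapCone c) := isLimitOfPreserves F hc
  have hg : ∀ j, (F.mapCone c).π.app j ≫ t.app j = c.pt.hom := fun j => CategoryTheory.Over.w (c.π.app j)
  haveI : ∀ i j (a : i ⟶ j), IsAffineHom (D₀.map a) := fun i j a => by
    haveI := htr i j a
    exact inferInstanceAs (IsAffineHom (D.map a).left)
  let s := CohB1.specQuot I 0
  let E := bcDiag t s
  haveI : ∀ i j (a : i ⟶ j), IsAffineHom (E.map a) := fun i j a => isAffineHom_bcDiag _ _ a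
  haveI : ∀ i, IsProper (t.app i) := fun i => (hpi i).2.1
  haveI : ∀ i, CompactSpace (E.obj i) := fun i =>
    QuasiCompact.compactSpace_of_compactSpace (pullback.fst s (t.app i))
  haveI : ∀ i, QuasiSeparatedSpace (E.obj i) := fun i =>
    quasiSeparatedSpace_of_quasiSeparated (pullback.fst s (t.app i))
  obtain ⟨hlim⟩ := nonempty_isLimit_bcCone t s (F.mapCone c) c.pt.hom hg hc₀
  have hew : e.inv.left ≫ c.pt.hom = f := CategoryTheory.Over.w e.inv
  let θ : CohB1.thick f I 0 ⟶ pullback s c.pt.hom :=
    (pullbackSymmetry f s).hom ≫ pullback.map s f s c.pt.hom (𝟙 _) e.inv.left (𝟙 _)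
      (by simp) (by rw [Category.comp_id]; exact hew.symm)
  haveI : IsIso e.inv.left := inferInstanceAs (IsIso (F.map e.inv))
  haveI : IsIso θ := inferInstance
  haveI : IsFinite (v ≫ θ) := inferInstance
  haveI : Etale (v ≫ θ) := inferInstance
  obtain ⟨i, Vi, vi, qi, hif, hie, sqi⟩ :=
    exists_finiteEtale_stage E (bcCone t s (F.mapCone c) c.pt.hom hg) hlim (v ≫ θ)
  haveI := hif
  haveI := hie
  let Di := (D.obj i).left
  let fi : Di ⟶ Spec (CommRingCat.of A) := (D.obj i).hom
  haveI : IsProper fi := (hpi i).2.1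
  haveI : LocallyOfFinitePresentation fi := (hpi i).2.2
  let σ : CohB1.thick fi I 0 ⟶ E.obj i := (pullbackSymmetry fi s).hom
  haveI : IsFinite (pullback.snd vi σ) := MorphismProperty.pullback_snd _ _ inferInstance
  haveI : Etale (pullback.snd vi σ) := MorphismProperty.pullback_snd _ _ inferInstance
  obtain ⟨Y, y, q, hyf, hye, sqy⟩ := isLiftable_fp hS (A := CommRingCat.of A) I fi (pullback.snd vi σ)
  haveI := hyf
  haveI := hye
  let ρ : X ⟶ Di := e.inv.left ≫ (c.π.app i).left
  have hρ : ρ ≫ fi = f := by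
    show (e.inv.left ≫ (c.π.app i).left) ≫ fi = f
    rw [Category.assoc, CategoryTheory.Over.w (c.π.app i)]
    exact hew
  let ρ₀ : CohB1.thick f I 0 ⟶ CohB1.thick fi I 0 :=
    pullback.lift (CohB1.thickι f I 0 ≫ ρ) (CohB1.thickToBase f I 0)
      (by rw [Category.assoc, hρ]; exact pullback.condition)
  have hρσ : ρ₀ ≫ σ = θ ≫ (bcCone t s (F.mapCone c) c.pt.hom hg).π.app i := by
    have hθ1 : θ ≫ pullback.fst s c.pt.hom = pullback.snd f s := by
      rw [Category.assoc, pullback.lift_fst, Category.comp_id]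
      exact pullbackSymmetry_hom_comp_fst f s
    have hθ2 : θ ≫ pullback.snd s c.pt.hom = pullback.fst f s ≫ e.inv.left := by
      rw [Category.assoc, pullback.lift_snd, ← Category.assoc, pullbackSymmetry_hom_comp_snd]
    apply pullback.hom_ext
    · calc (ρ₀ ≫ σ) ≫ pullback.fst s (t.app i) = ρ₀ ≫ pullback.snd fi s :=
            (Category.assoc _ _ _).trans (congrArg (ρ₀ ≫ ·) (pullbackSymmetry_hom_comp_fst fi s))
        _ = pullback.snd f s := pullback.lift_snd _ _ _
        _ = θ ≫ pullback.fst s c.pt.hom := hθ1.symm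
        _ = _ := by simp [bcCone]
    · calc (ρ₀ ≫ σ) ≫ pullback.snd s (t.app i) = ρ₀ ≫ pullback.fst fi s :=
            (Category.assoc _ _ _).trans (congrArg (ρ₀ ≫ ·) (pullbackSymmetry_hom_comp_snd fi s))
        _ = pullback.fst f s ≫ ρ := pullback.lift_fst _ _ _
        _ = (θ ≫ pullback.snd s c.pt.hom) ≫ (c.π.app i).left := by rw [hθ2, Category.assoc]
        _ = _ := by simp [bcCone, F]
  have P0 : IsPullback (𝟙 V) v (v ≫ θ) θ := IsPullback.of_horiz_isIso ⟨by simp⟩
  have sqv := P0.paste_horiz sqi
  rw [Category.id_comp, ← hρσ] at sqv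
  have sq1 : IsPullback (pullback.lift qi (v ≫ ρ₀) (by rw [Category.assoc]; exact sqv.w)) v
      (pullback.snd vi σ) ρ₀ :=
    IsPullback.of_right (by rw [pullback.lift_fst]; exact sqv) (pullback.lift_snd _ _ _)
      (IsPullback.of_hasPullback vi σ)
  have sqt := sq1.paste_horiz sqy
  rw [show ρ₀ ≫ CohB1.thickι fi I 0 = CohB1.thickι f I 0 ≫ ρ from pullback.lift_fst _ _ _] at sqt
  haveI : IsFinite (pullback.snd y ρ) := MorphismProperty.pullback_snd _ _ inferInstance
  haveI : Etale (pullback.snd y ρ) := MorphismProperty.pullback_snd _ _ inferInstance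
  refine ⟨pullback y ρ, pullback.snd y ρ,
    pullback.lift _ (v ≫ CohB1.thickι f I 0) (sqt.w.trans (Category.assoc _ _ _).symm), ‹_›, ‹_›, ?_⟩
  exact IsPullback.of_right (by rw [pullback.lift_fst]; exact sqt) (pullback.lift_snd _ _ _)
    (IsPullback.of_hasPullback y ρ)

/-- Restriction of covers of a proper scheme over a henselian pair to the closed part is an equivalence. -/
theorem isEquivalence_restrict (hS : AlgebraizationStatement.{u}) {A : Type u} [CommRing A] (I : Ideal A)
    [HenselianRing A I] {X : Scheme.{u}} (f : X ⟶ Spec (CommRingCat.of A)) [IsProper f] :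
    (FEt.restrict (pullback.fst f (Spec.map (CommRingCat.ofHom (Ideal.Quotient.mk I))))).IsEquivalence := by
  let j := Spec.map (CommRingCat.ofHom (Ideal.Quotient.mk I))
  let r := pullback.fst f j
  haveI : IsClosedImmersion j := IsClosedImmersion.spec_of_surjective _ Ideal.Quotient.mk_surjective
  haveI : IsClosedImmersion r := MorphismProperty.pullback_fst _ _ inferInstance
  obtain ⟨hfull, hfaith⟩ := HensH0.fullyFaithful_of_range I f r (HensH0.range_fst_eq I f)
  haveI := hfull
  haveI := hfaith
  haveI : (FEt.restrict r).EssSurj := essSurj_of_isLiftable r fun V v _ _ => by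
    have h1 : I ^ (0 + 1) = I := pow_one I
    let k : Spec (CommRingCat.of (A ⧸ I)) ⟶ Spec (CommRingCat.of (A ⧸ I ^ (0 + 1))) :=
      Spec.map (CommRingCat.ofHom (Ideal.quotEquivOfEq h1).toRingHom)
    haveI : IsIso k :=
      inferInstanceAs (IsIso (Scheme.Spec.map ((Ideal.quotEquivOfEq h1).toCommRingCatIso.hom).op))
    have hk : k ≫ CohB1.specQuot I 0 = j :=
      (Spec.map_comp _ _).symm.trans (congrArg Spec.map (by ext x; rfl))
    let θ : pullback f j ⟶ CohB1.thick f I 0 :=
      pullback.map f j f (CohB1.specQuot I 0) (𝟙 _) k (𝟙 _) (by simp) (by rw [Category.comp_id]; exact hk.symm)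
    haveI : IsFinite (v ≫ θ) := inferInstance
    haveI : Etale (v ≫ θ) := inferInstance
    obtain ⟨Y, y, q, hyf, hye, sqy⟩ := isLiftable_proper hS I f (v ≫ θ)
    refine ⟨Y, y, q, hyf, hye, ?_⟩
    have P0 : IsPullback (𝟙 V) v (v ≫ θ) θ := IsPullback.of_horiz_isIso ⟨by simp⟩
    have P1 := P0.paste_horiz sqy
    rwa [Category.id_comp, show θ ≫ CohB1.thickι f I 0 = r from
      (pullback.lift_fst _ _ _).trans (Category.comp_id _)] at P1
  exact Functor.IsEquivalence.mk

end Groth.Agent.PropPi1
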