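import Groth.Agent.PropPi1.GRing
import Groth.Agent.FPModelLib.ProperModel
import Groth.Agent.S2051
import Groth.Agent.S9276
import Groth.Agent.HensGColim.Basic

/-!
# Lifting covers of the closed part: finitely presented proper schemes
-/

set_option autoImplicit false
set_option linter.style.haveILetI false
set_option backward.isDefEq.respectTransparency false
set_option backward.isDefEq.respectTransparency.types false
universe u
open CategoryTheory CategoryTheory.Limits AlgebraicGeometry Opposite

noncomputable section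

namespace Groth.Agent.PropPi1

/-- Algebraization of formal finite schemes, as used here. -/
def AlgebraizationStatement : Prop :=
  ∀ (A : Type u) [CommRing A] [IsNoetherianRing A] (I : Ideal A) [IsAdicComplete I A] {X : Scheme.{u}}
    (f : X ⟶ Spec (CommRingCat.of A)) [IsProper f], Algebraizable I f

open FPModelLib in
theorem isGRing_zStage (A : CommRingCat.{u}) (S : ZIdx A) : CAlg.IsGRing S.1 := by
  letI : Algebra HensGColim.Z.{u} S.1 := HensGColim.algebraZ
  have h0 : (algebraMap ℤ S.1).FiniteType := RingHom.finiteType_algebraMap.2 ((Subalgebra.fg_iff_finiteType S.1).1 S.2)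
  rw [RingHom.ext_int (algebraMap ℤ S.1) ((algebraMap HensGColim.Z.{u} S.1).comp (Int.castRingHom _))] at h0
  haveI : Algebra.FiniteType HensGColim.Z.{u} S.1 :=
    RingHom.finiteType_algebraMap.1 (RingHom.FiniteType.of_comp_finiteType h0)
  exact GRingCompleteLib.isGRing_of_finiteType _ HensGColim.isGRing_Z _

section QSys

variable (A : CommRingCat.{u}) (J : Ideal A)

/-- The traces of an ideal on the finitely generated subrings. -/
abbrev zIdeal (S : FPModelLib.ZIdx A) : Ideal S.1 := J.comap S.1.val.toRingHom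

/-- The system of quotients of finitely generated subrings. -/
def qRing : FPModelLib.ZIdx A ⥤ CommRingCat.{u} where
  obj S := CommRingCat.of (S.1 ⧸ zIdeal A J S)
  map {S T} h := CommRingCat.ofHom
    (Ideal.quotientMap (zIdeal A J T) (Subalgebra.inclusion h.le).toRingHom (fun _ hx => hx))
  map_id _ := by ext x; rfl
  map_comp _ _ := by ext x; rfl

/-- The maps to the quotient. -/
def qCocone : Cocone (qRing A J) where
  pt := CommRingCat.of (A ⧸ J)
  ι :=
    { app := fun S => CommRingCat.ofHom (Ideal.quotientMap J S.1.val.toRingHom le_rfl)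
      naturality := fun _ _ _ => by ext x; obtain ⟨x, rfl⟩ := Ideal.Quotient.mk_surjective x; rfl }

/-- The quotient is the colimit of the quotients. -/
def isColimitQCocone : IsColimit (qCocone A J) :=
  (AffLim.nonempty_isColimit_of_elementwise (qCocone A J)
    (fun x => by
      obtain ⟨a, ha⟩ := Ideal.Quotient.mk_surjective (I := J) x
      exact ⟨⟨Algebra.adjoin ℤ {a}, ⟨{a}, by simp⟩⟩, Ideal.Quotient.mk _ ⟨a, Algebra.subset_adjoin rfl⟩, ha⟩)
    (fun S x y e => ⟨S, le_rfl, by
      have : x = y := Ideal.quotientMap_injective e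
      rw [this]⟩)).some

/-- The spectra of the quotients. -/
def qSys : (FPModelLib.ZIdx A)ᵒᵖ ⥤ Scheme.{u} := (qRing A J).op ⋙ Scheme.Spec

/-- The cone with vertex the spectrum of the quotient. -/
def qCone : Cone (qSys A J) := Scheme.Spec.mapCone (qCocone A J).op

/-- The limit of the quotients. -/
def isLimitQCone : IsLimit (qCone A J) := isLimitOfPreserves Scheme.Spec (isColimitQCocone A J).op

instance {i j : (FPModelLib.ZIdx A)ᵒᵖ} (φ : i ⟶ j) : IsAffineHom ((qSys A J).map φ) :=
  inferInstanceAs (IsAffineHom (Spec.map _))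

instance (i : (FPModelLib.ZIdx A)ᵒᵖ) : IsAffine ((qSys A J).obj i) :=
  inferInstanceAs (IsAffine (Spec (CommRingCat.of _)))

/-- The quotient stages map to the stages. -/
def qToZ : qSys A J ⟶ FPModelLib.zSys A where
  app i := Spec.map (CommRingCat.ofHom (Ideal.Quotient.mk (zIdeal A J i.unop)))
  naturality i j φ := by
    refine (Spec.map_comp _ _).symm.trans (Eq.trans ?_ (Spec.map_comp _ _))
    exact congrArg Spec.map (by ext x; rfl)

theorem qCone_toZ (i : (FPModelLib.ZIdx A)ᵒᵖ) :
    (qCone A J).π.app i ≫ (qToZ A J).app i =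
      Spec.map (CommRingCat.ofHom (Ideal.Quotient.mk J)) ≫ (FPModelLib.zCone A).π.app i :=
  (Spec.map_comp _ _).symm.trans ((congrArg Spec.map (by ext x; rfl)).trans (Spec.map_comp _ _))

end QSys

/-- Covers of the closed part of a finitely presented proper scheme over a henselian pair lift. -/
theorem isLiftable_fp (hS : AlgebraizationStatement.{u}) {A : CommRingCat.{u}} (I : Ideal A)
    [HenselianRing A I] {X : Scheme.{u}} (f : X ⟶ Spec (CommRingCat.of A)) [IsProper f]
    [LocallyOfFinitePresentation f] {V : Scheme.{u}} (v : V ⟶ CohB1.thick f I 0) [IsFinite v] [Etale v] :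
    IsLiftable (CohB1.thickι f I 0) v := by
  let J : Ideal A := I ^ (0 + 1)
  haveI : CompactSpace X := QuasiCompact.compactSpace_of_compactSpace f
  haveI : QuasiSeparatedSpace X := quasiSeparatedSpace_of_quasiSeparated f
  let f' : X ⟶ (FPModelLib.zCone A).pt := f
  haveI : IsProper f' := ‹IsProper f›
  haveI : LocallyOfFinitePresentation f' := ‹LocallyOfFinitePresentation f›
  obtain ⟨i₀, G₀, g₀, q₀, hm⟩ := FPModelLib.Gen.exists_model (FPModelLib.zSys A) (FPModelLib.zCone A)
    (FPModelLib.isLimitZCone A) f'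
  haveI := hm.compact
  haveI := hm.qs
  haveI := hm.lfp
  obtain ⟨i, φ₀, hpr⟩ := FPModelLib.exists_proper_stage (FPModelLib.zSys A) (FPModelLib.zCone A)
    (FPModelLib.isLimitZCone A) i₀ g₀ (𝟙 _) (IsPullback.id_vert _) hm.isPullback
  let G := pullback g₀ ((FPModelLib.zSys A).map φ₀)
  let g : G ⟶ (FPModelLib.zSys A).obj i := pullback.snd g₀ ((FPModelLib.zSys A).map φ₀)
  haveI : IsProper g := FPModelLib.prop_snd_of_baseChangeMap (FPModelLib.zSys A) g₀ (Over.mk φ₀) hpr
  let q : X ⟶ G := pullback.lift q₀ (f' ≫ (FPModelLib.zCone A).π.app i)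
    (by rw [Category.assoc, Cone.w]; exact hm.isPullback.w)
  have hq : IsPullback q f' g ((FPModelLib.zCone A).π.app i) :=
    IsPullback.of_right (by rw [pullback.lift_fst, Cone.w]; exact hm.isPullback) (pullback.lift_snd _ _ _)
      (IsPullback.of_hasPullback g₀ ((FPModelLib.zSys A).map φ₀))
  -- the closed part as a limit
  let D₀ := Over.forget i ⋙ qSys A J
  let t : D₀ ⟶ (Functor.const (Over i)).obj ((FPModelLib.zSys A).obj i) :=
    { app := fun k => (qToZ A J).app k.left ≫ (FPModelLib.zSys A).map k.hom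
      naturality := fun k l a => by
        refine ((qToZ A J).naturality_assoc a.left _).trans ?_
        refine Eq.trans ?_ (Category.comp_id _).symm
        rw [← Functor.map_comp, Over.w] }
  let c₀ : Cone D₀ := (qCone A J).whisker (Over.forget i)
  let gc : c₀.pt ⟶ (FPModelLib.zSys A).obj i :=
    Spec.map (CommRingCat.ofHom (Ideal.Quotient.mk J)) ≫ (FPModelLib.zCone A).π.app i
  have hgc : ∀ k, c₀.π.app k ≫ t.app k = gc := fun k => by
    show (qCone A J).π.app k.left ≫ (qToZ A J).app k.left ≫ (FPModelLib.zSys A).map k.hom = _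
    rw [← Category.assoc, qCone_toZ, Category.assoc, Cone.w]
  haveI : Functor.Initial (Over.forget i) := inferInstance
  have hc₀ : IsLimit c₀ := (Functor.Initial.isLimitWhiskerEquiv (Over.forget i) _).symm (isLimitQCone A J)
  let D := bcDiag t g
  haveI : ∀ k l (a : k ⟶ l), IsAffineHom (D₀.map a) := fun k l a =>
    inferInstanceAs (IsAffineHom ((qSys A J).map a.left))
  haveI : ∀ k l (a : k ⟶ l), IsAffineHom (D.map a) := fun k l a => isAffineHom_bcDiag _ _ a
  haveI : ∀ k, CompactSpace (D₀.obj k) := fun k => inferInstanceAs (CompactSpace ((qSys A J).obj k.left))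
  haveI : ∀ k, CompactSpace (D.obj k) := fun k =>
    QuasiCompact.compactSpace_of_compactSpace (pullback.snd g (t.app k))
  haveI : ∀ k, QuasiSeparatedSpace (D₀.obj k) := fun k =>
    inferInstanceAs (QuasiSeparatedSpace ((qSys A J).obj k.left))
  haveI : ∀ k, QuasiSeparatedSpace (D.obj k) := fun k =>
    quasiSeparatedSpace_of_quasiSeparated (pullback.snd g (t.app k))
  obtain ⟨hlim⟩ := nonempty_isLimit_bcCone t g c₀ gc hgc hc₀
  -- the closed part is this limit
  let θ : CohB1.thick f I 0 ⟶ pullback g gc :=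
    pullback.lift (CohB1.thickι f I 0 ≫ q) (CohB1.thickToBase f I 0)
      (by
        rw [Category.assoc, hq.w]
        show CohB1.thickι f I 0 ≫ f ≫ _ = _
        rw [← Category.assoc, pullback.condition, Category.assoc]
        rfl)
  haveI : IsIso θ := by
    have P1 := (IsPullback.of_hasPullback f (CohB1.specQuot I 0)).paste_horiz hq
    have P : IsPullback (CohB1.thickι f I 0 ≫ q) (CohB1.thickToBase f I 0) g gc := P1
    rw [show θ = P.isoPullback.hom from pullback.hom_ext (by simp [θ]) (by simp [θ])]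
    infer_instance
  haveI : IsFinite (v ≫ θ) := inferInstance
  haveI : Etale (v ≫ θ) := inferInstance
  obtain ⟨k, Vk, vk, qk, hkf, hke, sqk⟩ := exists_finiteEtale_stage D (bcCone t g c₀ gc hgc) hlim (v ≫ θ)
  haveI := hkf
  haveI := hke
  -- henselize the stage
  let R := k.left.unop.1
  let Jk : Ideal R := zIdeal A J k.left.unop
  obtain ⟨B, _, _, hB⟩ := S2051.result R Jk
  have hRG : CAlg.IsGRing R := isGRing_zStage A k.left.unop
  have hBG : CAlg.IsGRing B := S9276.result R hRG Jk B hB
  haveI := hB.1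
  obtain ⟨β, hβ, -⟩ := hB.2 A I R.val.toRingHom ‹HenselianRing A I›
    ((Ideal.map_comap_le).trans ((pow_one I).le))
  let IB := Jk.map (algebraMap R B)
  let π := Spec.map (CommRingCat.ofHom (algebraMap R B)) ≫ (FPModelLib.zSys A).map k.hom
  let GB := pullback g π
  let fB : GB ⟶ Spec (CommRingCat.of B) := pullback.snd g π
  haveI : IsProper fB := MorphismProperty.pullback_snd _ _ inferInstance
  haveI : IsNoetherianRing B := hBG.1
  haveI : IsNoetherianRing (AdicCompletion IB B) := RegLocal.isNoetherianRing_completion B IB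
  haveI : IsAdicComplete (IB.map (algebraMap B (AdicCompletion IB B))) (AdicCompletion IB B) :=
    AdicCompletion.isAdicComplete_self IB IB.fg_of_isNoetherianRing
  haveI : IsProper (pullback.snd fB (Spec.map (CommRingCat.ofHom (algebraMap B (AdicCompletion IB B))))) :=
    MorphismProperty.pullback_snd _ _ inferInstance
  have hle : Jk ≤ (IB ^ (0 + 1)).comap (algebraMap R B) := by
    rw [zero_add, pow_one]; exact Ideal.le_comap_map
  let μ : Spec (CommRingCat.of (B ⧸ IB ^ (0 + 1))) ⟶ (qSys A J).obj k.left :=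
    Spec.map (CommRingCat.ofHom (Ideal.quotientMap (IB ^ (0 + 1)) (algebraMap R B) hle))
  have hμ : μ ≫ t.app k = CohB1.specQuot IB 0 ≫ π := by
    show μ ≫ Spec.map _ ≫ _ = _ ≫ Spec.map _ ≫ _
    rw [← Category.assoc, ← Category.assoc]
    exact congrArg (· ≫ (FPModelLib.zSys A).map k.hom)
      ((Spec.map_comp _ _).symm.trans ((congrArg Spec.map (by ext x; rfl)).trans (Spec.map_comp _ _)))
  let μ' : CohB1.thick fB IB 0 ⟶ D.obj k :=
    pullback.lift (CohB1.thickι fB IB 0 ≫ pullback.fst g π) (CohB1.thickToBase fB IB 0 ≫ μ)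
      (by
        rw [Category.assoc, Category.assoc, hμ, pullback.condition (f := g), ← Category.assoc,
          pullback.condition (f := fB), Category.assoc])
  haveI : IsFinite (pullback.snd vk μ') := MorphismProperty.pullback_snd _ _ inferInstance
  haveI : Etale (pullback.snd vk μ') := MorphismProperty.pullback_snd _ _ inferInstance
  obtain ⟨Y, y, qy, hyf, hye, sqy⟩ := isLiftable_gRing IB hBG fB (hS _ _ _) (pullback.snd vk μ')
  haveI := hyf
  haveI := hye
  let bb : Spec (CommRingCat.of A) ⟶ Spec (CommRingCat.of B) := Spec.map (CommRingCat.ofHom β)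
  have hbb : bb ≫ π = (FPModelLib.zCone A).π.app i := by
    show bb ≫ Spec.map _ ≫ _ = _
    rw [← Category.assoc, ← Spec.map_comp]
    refine Eq.trans ?_ ((FPModelLib.zCone A).w k.hom)
    exact congrArg (· ≫ (FPModelLib.zSys A).map k.hom) (congrArg Spec.map (CommRingCat.hom_ext hβ))
  let ρ : X ⟶ GB := pullback.lift q (f ≫ bb) (by rw [Category.assoc, hbb]; exact hq.w)
  have hle' : IB ^ (0 + 1) ≤ J.comap β := by
    rw [zero_add, pow_one, Ideal.map_le_iff_le_comap, Ideal.comap_comap, hβ]
  let bq : Spec (CommRingCat.of (A ⧸ J)) ⟶ Spec (CommRingCat.of (B ⧸ IB ^ (0 + 1))) :=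
    Spec.map (CommRingCat.ofHom (Ideal.quotientMap J β hle'))
  have hbq : bq ≫ CohB1.specQuot IB 0 = CohB1.specQuot I 0 ≫ bb :=
    (Spec.map_comp _ _).symm.trans ((congrArg Spec.map (by ext x; rfl)).trans (Spec.map_comp _ _))
  let ρ₀ : CohB1.thick f I 0 ⟶ CohB1.thick fB IB 0 :=
    pullback.lift (CohB1.thickι f I 0 ≫ ρ) (CohB1.thickToBase f I 0 ≫ bq)
      (by
        rw [Category.assoc, Category.assoc, hbq, pullback.lift_snd, ← Category.assoc, pullback.condition,
          Category.assoc])
  have hbμ : bq ≫ μ = (qCone A J).π.app k.left :=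
    (Spec.map_comp _ _).symm.trans (congrArg Spec.map (by
      ext x
      obtain ⟨x, rfl⟩ := Ideal.Quotient.mk_surjective x
      exact congrArg (Ideal.Quotient.mk J) (RingHom.congr_fun hβ x)))
  have hρμ : ρ₀ ≫ μ' = θ ≫ (bcCone t g c₀ gc hgc).π.app k := by
    apply pullback.hom_ext
    · simp [μ', ρ₀, ρ, θ, bcCone]
    · simp only [μ', ρ₀, θ, bcCone, pullback.map, Category.assoc, pullback.lift_snd,
        pullback.lift_snd_assoc]
      rw [hbμ]
      rfl
  have sqv : IsPullback qk v vk (ρ₀ ≫ μ') := by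
    rw [hρμ]
    have P0 : IsPullback (𝟙 V) v (v ≫ θ) θ := IsPullback.of_horiz_isIso ⟨by simp⟩
    have P1 := P0.paste_horiz sqk
    rwa [Category.id_comp] at P1
  have sq1 : IsPullback (pullback.lift qk (v ≫ ρ₀) (by rw [Category.assoc]; exact sqv.w)) v
      (pullback.snd vk μ') ρ₀ :=
    IsPullback.of_right (by rw [pullback.lift_fst]; exact sqv) (pullback.lift_snd _ _ _)
      (IsPullback.of_hasPullback vk μ')
  have sqt := sq1.paste_horiz sqy
  rw [show ρ₀ ≫ CohB1.thickι fB IB 0 = CohB1.thickι f I 0 ≫ ρ from pullback.lift_fst _ _ _] at sqt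
  haveI : IsFinite (pullback.snd y ρ) := MorphismProperty.pullback_snd _ _ inferInstance
  haveI : Etale (pullback.snd y ρ) := MorphismProperty.pullback_snd _ _ inferInstance
  refine ⟨pullback y ρ, pullback.snd y ρ,
    pullback.lift (pullback.lift qk (v ≫ ρ₀) (by rw [Category.assoc]; exact sqv.w) ≫ qy) (v ≫ CohB1.thickι f I 0)
      (sqt.w.trans (Category.assoc _ _ _).symm), ‹_›, ‹_›, ?_⟩
  exact IsPullback.of_right (by rw [pullback.lift_fst]; exact sqt) (pullback.lift_snd _ _ _)
    (IsPullback.of_hasPullback y ρ)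

end Groth.Agent.PropPi1
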