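import Groth.Prelude
import Groth.Agent.PropPi1.LocalAlg

/-!
# Finite covers étale on all thickenings
-/

set_option autoImplicit false
set_option linter.style.haveILetI false
set_option backward.isDefEq.respectTransparency false
set_option backward.isDefEq.respectTransparency.types false
universe u
open CategoryTheory CategoryTheory.Limits AlgebraicGeometry TensorProduct

noncomputable section

namespace Groth.Agent.PropPi1

theorem isPullback_fromSpec {X W : Scheme.{u}} (w : W ⟶ X) [IsAffineHom w] {V : X.Opens}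
    (hV : IsAffineOpen V) :
    IsPullback (hV.preimage w).fromSpec (Spec.map (w.appLE V (w ⁻¹ᵁ V) le_rfl)) w hV.fromSpec := by
  refine (isPullback_morphismRestrict w V).flip.of_iso (hV.preimage w).isoSpec (Iso.refl _) hV.isoSpec
    (Iso.refl _) ?_ ?_ ?_ ?_
  · rw [Iso.refl_hom, Category.comp_id, IsAffineOpen.isoSpec_hom_fromSpec]
  · rw [← cancel_mono hV.fromSpec, Category.assoc, Category.assoc, IsAffineOpen.isoSpec_hom_fromSpec,
      IsAffineOpen.SpecMap_appLE_fromSpec w hV (hV.preimage w) le_rfl,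
      IsAffineOpen.isoSpec_hom_fromSpec_assoc, morphismRestrict_ι]
  · simp
  · rw [Iso.refl_hom, Category.comp_id, IsAffineOpen.isoSpec_hom_fromSpec]

variable {A : Type u} [CommRing A] (I : Ideal A) {X W : Scheme.{u}}
  (f : X ⟶ Spec (CommRingCat.of A)) (w : W ⟶ X)

/-- A finite cover étale on all thickenings is étale near the closed part. -/
theorem exists_open_etale [IsFinite w] [IsLocallyNoetherian X]
    (h : ∀ n, Etale (pullback.snd w (CohB1.thickι f I n))) (z : W)
    (hz : f (w z) ∈ PrimeSpectrum.zeroLocus (I : Set A)) :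
    ∃ U : W.Opens, z ∈ U ∧ Etale (U.ι ≫ w) := by
  obtain ⟨V, hV, hzV, -⟩ := exists_isAffineOpen_mem_and_subset (x := w z) (U := ⊤) trivial
  let U₀ := w ⁻¹ᵁ V
  have hU₀ : IsAffineOpen U₀ := hV.preimage w
  let φ := w.appLE V U₀ le_rfl
  letI : Algebra Γ(X, V) Γ(W, U₀) := φ.hom.toAlgebra
  have sq := isPullback_fromSpec w hV
  haveI : IsNoetherianRing Γ(X, V) := IsLocallyNoetherian.component_noetherian ⟨V, hV⟩
  haveI : IsFinite (Spec.map φ) := MorphismProperty.of_isPullback sq inferInstance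
  haveI : Module.Finite Γ(X, V) Γ(W, U₀) := RingHom.finite_algebraMap.1 ((IsFinite.SpecMap_iff φ).1 inferInstance)
  haveI : Algebra.FinitePresentation Γ(X, V) Γ(W, U₀) := Algebra.FinitePresentation.of_finiteType.1 inferInstance
  obtain ⟨ψ, hψ⟩ : ∃ ψ, Spec.map ψ = hV.fromSpec ≫ f := ⟨Spec.preimage _, Spec.map_preimage _⟩
  let J : Ideal Γ(X, V) := I.map ψ.hom
  have hJ : ∀ n, Algebra.Etale (Γ(X, V) ⧸ J ^ n) ((Γ(X, V) ⧸ J ^ n) ⊗[Γ(X, V)] Γ(W, U₀)) := by
    intro n
    let j := Spec.map (CommRingCat.ofHom (algebraMap Γ(X, V) (Γ(X, V) ⧸ J ^ n)))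
    have hle : I ^ (n + 1) ≤ (J ^ n).comap ψ.hom :=
      (Ideal.pow_le_pow_right (Nat.le_succ n)).trans
        (Ideal.map_le_iff_le_comap.1 (le_of_eq (Ideal.map_pow _ _ _)))
    let e := Spec.map (CommRingCat.ofHom (Ideal.quotientMap (J ^ n) ψ.hom hle))
    have he : e ≫ CohB1.specQuot I n = (j ≫ hV.fromSpec) ≫ f := by
      rw [Category.assoc, ← hψ, CohB1.specQuot, ← Spec.map_comp, ← Spec.map_comp]
      congr 1
    let l : Spec (CommRingCat.of (Γ(X, V) ⧸ J ^ n)) ⟶ CohB1.thick f I n :=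
      pullback.lift (j ≫ hV.fromSpec) e he.symm
    have hl : l ≫ CohB1.thickι f I n = j ≫ hV.fromSpec := pullback.lift_fst _ _ _
    have P1 := (IsPullback.of_hasPullback (Spec.map φ) j).paste_horiz sq
    rw [← hl] at P1
    have P2 := IsPullback.of_hasPullback w (CohB1.thickι f I n)
    let k : pullback (Spec.map φ) j ⟶ pullback w (CohB1.thickι f I n) :=
      pullback.lift (pullback.fst _ _ ≫ hU₀.fromSpec) (pullback.snd _ _ ≫ l) (by rw [Category.assoc _ l]; exact P1.w)
    have P3 : IsPullback k (pullback.snd (Spec.map φ) j) (pullback.snd w (CohB1.thickι f I n)) l :=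
      IsPullback.of_right (by rw [pullback.lift_fst]; exact P1) (pullback.lift_snd _ _ _) P2
    haveI : Etale (pullback.snd (Spec.map φ) j) := MorphismProperty.of_isPullback P3 (h n)
    have h2 : Etale (Spec.map (CommRingCat.ofHom
        (algebraMap (Γ(X, V) ⧸ J ^ n) ((Γ(X, V) ⧸ J ^ n) ⊗[Γ(X, V)] Γ(W, U₀))))) := by
      have : Spec.map (CommRingCat.ofHom
          (algebraMap (Γ(X, V) ⧸ J ^ n) ((Γ(X, V) ⧸ J ^ n) ⊗[Γ(X, V)] Γ(W, U₀)))) =
          (pullbackSpecIso Γ(X, V) (Γ(X, V) ⧸ J ^ n) Γ(W, U₀)).inv ≫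
            (pullbackSymmetry _ _).hom ≫ pullback.snd (Spec.map φ) j := by
        refine (pullbackSpecIso_inv_fst' Γ(X, V) (Γ(X, V) ⧸ J ^ n) Γ(W, U₀)).symm.trans ?_
        exact congrArg _ (pullbackSymmetry_hom_comp_snd _ _).symm
      rw [this]
      infer_instance
    exact RingHom.etale_algebraMap.1 ((HasRingHomProperty.Spec_iff (P := @Etale)).1 h2)
  obtain ⟨q, hq⟩ : ∃ q : Spec Γ(W, U₀), hU₀.fromSpec q = z := by
    have : z ∈ Set.range hU₀.fromSpec := by rw [hU₀.range_fromSpec]; exact hzV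
    exact this
  have hqI : J ≤ q.asIdeal.comap φ.hom := by
    rw [Ideal.map_le_iff_le_comap]
    have : Spec.map ψ (Spec.map φ q) ∈ PrimeSpectrum.zeroLocus (I : Set A) := by
      have hw : hV.fromSpec (Spec.map φ q) = w z := by
        rw [← hq, ← Scheme.Hom.comp_apply, ← sq.w]
        rfl
      rw [hψ, Scheme.Hom.comp_apply, hw]
      exact hz
    exact this
  haveI := isEtaleAt_of_quotients J hJ q.asIdeal hqI
  obtain ⟨s, hs, het⟩ := Algebra.exists_etale_of_isEtaleAt (R := Γ(X, V)) q.asIdeal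
  let o := Spec.map (CommRingCat.ofHom (algebraMap Γ(W, U₀) (Localization.Away s))) ≫ hU₀.fromSpec
  haveI : IsOpenImmersion o := inferInstance
  haveI : Etale (o ≫ w) := by
    rw [Category.assoc, sq.w, ← Category.assoc, ← Spec.map_comp]
    haveI : Etale (Spec.map (φ ≫ CommRingCat.ofHom (algebraMap Γ(W, U₀) (Localization.Away s)))) := by
      refine (HasRingHomProperty.Spec_iff (P := @Etale)).2 ?_
      haveI := het
      have hφs : (φ ≫ CommRingCat.ofHom (algebraMap Γ(W, U₀) (Localization.Away s))).hom =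
          algebraMap Γ(X, V) (Localization.Away s) :=
        (IsScalarTower.algebraMap_eq Γ(X, V) Γ(W, U₀) (Localization.Away s)).symm
      rw [hφs]
      exact RingHom.etale_algebraMap.2 het
    infer_instance
  refine ⟨o.opensRange, ?_, ?_⟩
  · have : q ∈ Set.range (Spec.map (CommRingCat.ofHom (algebraMap Γ(W, U₀) (Localization.Away s)))) := by
      refine (Set.ext_iff.1 (PrimeSpectrum.localization_away_comap_range (Localization.Away s) s) q).2 ?_
      exact hs
    obtain ⟨q', hq'⟩ := this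
    exact ⟨q', by rw [← hq, ← hq']; exact Scheme.Hom.comp_apply _ _ _⟩
  · have : o.opensRange.ι ≫ w = o.isoOpensRange.inv ≫ o ≫ w := by
      rw [Scheme.Hom.isoOpensRange_inv_comp_assoc]
    rw [this]
    infer_instance

/-- A finite cover étale on all thickenings of the closed part of a proper scheme is étale. -/
theorem etale_of_thickenings [IsFinite w] [IsProper f] [IsNoetherianRing A] (hI : I ≤ Ideal.jacobson ⊥)
    (h : ∀ n, Etale (pullback.snd w (CohB1.thickι f I n))) : Etale w := by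
  haveI : IsLocallyNoetherian X := LocallyOfFiniteType.isLocallyNoetherian f
  let U : Set W := {z | ∃ U : W.Opens, z ∈ U ∧ Etale (U.ι ≫ w)}
  have hU : IsOpen U := isOpen_iff_forall_mem_open.2 fun z ⟨O, hz, hO⟩ =>
    ⟨O, fun y hy => ⟨O, hy, hO⟩, O.isOpen, hz⟩
  have hempty : Uᶜ = ∅ := by
    haveI : IsProper (w ≫ f) := inferInstance
    by_contra hne
    obtain ⟨z, hz⟩ := Set.nonempty_iff_ne_empty.2 hne
    have hcl := (w ≫ f).isClosedMap _ hU.isClosed_compl
    let p : PrimeSpectrum A := (w ≫ f) z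
    obtain ⟨m, hm, hpm⟩ := Ideal.exists_le_maximal p.asIdeal p.2.ne_top
    let p₀ : PrimeSpectrum A := ⟨m, hm.isPrime⟩
    have hp₀ : p₀ ∈ (w ≫ f) '' Uᶜ :=
      ((PrimeSpectrum.le_iff_specializes p p₀).1 hpm).mem_closed hcl ⟨z, hz, rfl⟩
    obtain ⟨y, hy, hyp⟩ := hp₀
    refine hy (exists_open_etale I f w h y ?_)
    rw [show f (w y) = p₀ from hyp]
    exact fun a ha => Ideal.mem_sInf.1 (hI ha) ⟨bot_le, hm⟩
  choose O hO hOet using fun z : W => show z ∈ U from by
    by_contra hz
    exact (hempty ▸ hz : z ∈ (∅ : Set W))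
  exact IsZariskiLocalAtSource.of_iSup_eq_top (P := @Etale) O
    (TopologicalSpace.Opens.ext (Set.eq_univ_of_forall fun z => by simpa using ⟨z, hO z⟩)) hOet

end Groth.Agent.PropPi1
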